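import Cfsg.Agent.LocalEven64.SzSub.Core

/-!
# The normalised two-Sylow subgroup of the Suzuki group is a subfield group
-/

set_option autoImplicit false

namespace Cfsg.Agent.LocalEven64.SzSub

open Cfsg.Agent.Suzuki

variable {F : Type*} [Field F] [Fintype F] {m : ℕ}

theorem not_three_dvd (hF : Fintype.card F = 2 ^ (2 * m + 1)) (hm : 1 ≤ m) :
    ¬ 3 ∣ Nat.card (Cfsg.Sz F m) := by
  rw [card_Sz hF hm]
  obtain ⟨q, hq⟩ : ∃ q, 2 ^ (2 * m + 1) = 3 * q + 2 := by
    have h : 2 ^ (2 * m + 1) % 3 = 2 := by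
      rw [pow_succ, pow_mul, Nat.mul_mod, Nat.pow_mod]
      norm_num
    exact ⟨2 ^ (2 * m + 1) / 3, by omega⟩
  rw [hq, show 3 * q + 2 - 1 = 3 * q + 1 by omega, Nat.dvd_iff_mod_eq_zero]
  simp [Nat.mul_mod, Nat.add_mod, Nat.pow_mod]

theorem sub_one_ge {n : ℕ} (h : 2 ≤ 2 ^ n - 1) : 2 ≤ n := by
  rcases Nat.lt_or_ge n 2 with h' | h'
  · interval_cases n <;> simp at h
  · exact h'

/-- The structure of a normalised subgroup. -/
theorem normalised (hF : Fintype.card F = 2 ^ (2 * m + 1)) (hm : 1 ≤ m) {M : Subgroup (Cfsg.Sz F m)}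
    (hB : Base hF M) (h1 : U hF 0 1 ∈ M) (hT : ∀ k ∈ scal hF hm M, T hF k ∈ M)
    (hnt : ∃ k ∈ scal hF hm M, k ≠ 1) :
    ∃ j : ℕ, 1 ≤ j ∧ 2 * j + 1 ∣ 2 * m + 1 ∧
      Nat.card M = (2 ^ (2 * j + 1)) ^ 2 * ((2 ^ (2 * j + 1)) ^ 2 + 1) * (2 ^ (2 * j + 1) - 1) ∧
      W hF ∈ M ∧
      (∀ a b : F, a ^ 2 ^ (2 * j + 1) = a → b ^ 2 ^ (2 * j + 1) = b → U hF a b ∈ M) ∧
      (∀ k : Fˣ, (k : F) ^ 2 ^ (2 * j + 1) = k → T hF k ∈ M) := by
  classical
  set S := scal hF hm M with hS
  set Kset : Set F := {x | U hF 0 x ∈ M} with hKset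
  have hK0 : (0 : F) ∈ Kset := by
    change U hF 0 0 ∈ M
    rw [U_zero]
    exact one_mem M
  have hmu : ∀ l ∈ S, ((mu m l : Fˣ) : F) ∈ Kset := fun l hl => by
    have h := mu_mul_mem hm hB h1 hl
    rwa [mul_one] at h
  have hrep : ∀ x ∈ Kset, x ≠ 0 → ∃ l ∈ S, x = ((mu m l : Fˣ) : F) := fun x hx hx0 => by
    obtain ⟨l, hl, e⟩ := transit hm hB one_ne_zero hx0 h1 hx
    exact ⟨l, hl, e.trans (mul_one _)⟩
  have hmul : ∀ x ∈ Kset, ∀ y ∈ Kset, x * y ∈ Kset := by
    intro x hx y hy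
    by_cases hx0 : x = 0
    · rw [hx0, zero_mul]; exact hK0
    obtain ⟨l, hl, rfl⟩ := hrep x hx hx0
    exact mu_mul_mem hm hB hy hl
  have hpow : ∀ x ∈ Kset, ∀ e : ℕ, x ^ e ∈ Kset := by
    intro x hx e
    induction e with
    | zero => rw [pow_zero]; exact h1
    | succ e ih => rw [pow_succ]; exact hmul _ ih _ hx
  have hunit : ∀ l : Fˣ, (l : F) ∈ Kset → l ∈ S := by
    intro l hl
    have hmem : ((mu m l : Fˣ) : F) ∈ Kset := by
      rw [mu_val]
      exact hmul _ hl _ (hpow _ hl _)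
    obtain ⟨l', hl', e⟩ := hrep _ hmem (Units.ne_zero _)
    rw [mu_injective hF (Units.ext e)]
    exact hl'
  have hSK : ∀ l ∈ S, (l : F) ∈ Kset := by
    let f : {x : F // x ≠ 0 ∧ U hF 0 x ∈ M} → S := fun x =>
      ⟨Units.mk0 (x : F) x.2.1, hunit _ x.2.2⟩
    have hf : Function.Injective f := fun x y e => by
      have h := congrArg Subtype.val e
      exact Subtype.ext (congrArg Units.val h)
    have hbij := hf.bijective_of_nat_card_le (card_inf hm hB).ge
    intro l hl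
    obtain ⟨x, hx⟩ := hbij.2 ⟨l, hl⟩
    have hx' : (x : F) = (l : F) := congrArg Units.val (congrArg Subtype.val hx)
    rw [← hx']
    exact x.2.2
  let Kf : Subfield F :=
    { carrier := Kset
      mul_mem' := fun {x y} hx hy => hmul x hx y hy
      one_mem' := h1
      add_mem' := fun {x y} hx hy => by
        change U hF 0 (x + y) ∈ M
        rw [← U_zero_mul]
        exact mul_mem hx hy
      zero_mem' := hK0
      neg_mem' := fun {x} hx => by
        rwa [neg_eq_of_add_eq_zero_left (add_self hF x)]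
      inv_mem' := fun x hx => by
        by_cases hx0 : x = 0
        · rw [hx0, inv_zero]; exact hK0
        · simpa using hSK _ (inv_mem (hunit (Units.mk0 x hx0) hx)) }
  have hmemK : ∀ {x : F}, x ∈ Kf ↔ U hF 0 x ∈ M := Iff.rfl
  -- the order of the subfield
  obtain ⟨n, -, hn⟩ : ∃ n ≤ 2 * m + 1, Nat.card Kf = 2 ^ n := by
    refine (Nat.dvd_prime_pow Nat.prime_two).1 ?_
    rw [← hF, ← Nat.card_eq_fintype_card]
    exact Kf.toSubring.toAddSubgroup.card_addSubgroup_dvd_card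
  have hKcard : Nat.card {x : F // x ≠ 0 ∧ U hF 0 x ∈ M} = 2 ^ n - 1 := by
    haveI := Fintype.ofFinite Kf
    rw [← hn, Nat.card_eq_fintype_card (α := Kf), ← Fintype.card_units,
      ← Nat.card_eq_fintype_card]
    exact Nat.card_congr
      { toFun := fun x => Units.mk0 (⟨x.1, x.2.2⟩ : Kf) fun h => x.2.1 (congrArg Subtype.val h)
        invFun := fun u => ⟨((u : Kf) : F), fun h => u.ne_zero (Subtype.ext h), (u : Kf).2⟩
        left_inv := fun x => rfl
        right_inv := fun u => Units.ext rfl }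
  have hScard : Nat.card S = 2 ^ n - 1 := by rw [← card_inf hm hB, hKcard]
  have hn2 : 2 ≤ n := by
    refine sub_one_ge ?_
    rw [← hScard]
    obtain ⟨k, hk, hk1⟩ := hnt
    haveI : Nontrivial S := ⟨⟨⟨k, hk⟩, 1, fun h => hk1 (congrArg Subtype.val h)⟩⟩
    exact Finite.one_lt_card
  have hndvd : n ∣ 2 * m + 1 := by
    haveI := Fintype.ofFinite Kf
    have h := Module.natCard_eq_pow_finrank (K := Kf) (V := F)
    rw [Nat.card_eq_fintype_card, hF, hn, ← pow_mul] at h
    exact ⟨_, Nat.pow_right_injective le_rfl h⟩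
  obtain ⟨j, hj⟩ : ∃ j, n = 2 * j + 1 := by
    obtain ⟨c, hc⟩ := hndvd
    exact Nat.Odd.of_mul_left (n := c) (hc ▸ ⟨m, rfl⟩)
  refine ⟨j, by omega, hj ▸ hndvd, ?_⟩
  rw [← hj]
  have hfixK : ∀ x : F, x ∈ Kf → x ^ 2 ^ n = x := by
    intro x hx
    haveI := Fintype.ofFinite Kf
    have h := congrArg Subtype.val (FiniteField.pow_card (⟨x, hx⟩ : Kf))
    rw [← Nat.card_eq_fintype_card, hn] at h
    simpa using h
  have hroot : ∀ x : F, x ^ 2 ^ n = x → x ∈ Kf := by
    intro x hx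
    by_contra hxK
    let p : Polynomial F := Polynomial.X ^ 2 ^ n - Polynomial.X
    have h1n : 1 < 2 ^ n := Nat.one_lt_two_pow (by omega)
    have hp0 : p ≠ 0 := FiniteField.X_pow_card_sub_X_ne_zero F h1n
    let s : Finset F := insert x (Set.toFinite (Kf : Set F)).toFinset
    have hs : s.card ≤ 2 ^ n := by
      have hsub : s.val ⊆ p.roots := by
        intro y hy
        rw [Polynomial.mem_roots hp0]
        have hy' : y ^ 2 ^ n = y := by
          rcases Finset.mem_insert.1 hy with rfl | h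
          · exact hx
          · exact hfixK y ((Set.Finite.mem_toFinset _).1 h)
        simp [p, hy']
      refine (Polynomial.card_le_degree_of_subset_roots hsub).trans ?_
      exact (FiniteField.X_pow_card_sub_X_natDegree_eq F h1n).le
    rw [Finset.card_insert_of_notMem (by rw [Set.Finite.mem_toFinset]; exact hxK), ← Set.ncard_eq_toFinset_card,
      ← Nat.card_coe_set_eq, show Nat.card (Kf : Set F) = 2 ^ n from hn] at hs
    omega
  -- the orbit of `∞`
  obtain ⟨k₀, hk₀, hk₀1⟩ := hnt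
  have horb : ∀ h ∈ M, h • Cfsg.suzukiPointInfinity F ≠ Cfsg.suzukiPointInfinity F →
      ∃ a c, U hF a c ∈ M ∧ h • Cfsg.suzukiPointInfinity F = pt m a c :=
    fun h hh hne => orbit_subset hm hB hk₀1 (hT k₀ hk₀) hh hne
  obtain ⟨w, hw, hwinf, hw0⟩ : ∃ w ∈ M, w • Cfsg.suzukiPointInfinity F = pt m (0 : F) 0 ∧
      w • pt m (0 : F) 0 = Cfsg.suzukiPointInfinity F := by
    obtain ⟨h, hh, hne⟩ := hB.move
    obtain ⟨a, c, hac, e⟩ := horb h hh hne
    set g := (U hF a c)⁻¹ * h
    have hg : g ∈ M := mul_mem (inv_mem hac) hh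
    have hg0 : g • Cfsg.suzukiPointInfinity F = pt m (0 : F) 0 := by
      rw [mul_smul, e, ← U_smul_zero hF a c, inv_smul_smul]
    have ho : orderOf (g * U hF 0 1 * g⁻¹) = 2 := by
      have e' := orderOf_injective (MulAut.conj g).toMonoidHom (MulAut.conj g).injective
        (U hF 0 1)
      simp only [MulEquiv.coe_toMonoidHom, MulAut.conj_apply] at e'
      rw [e', orderOf_U hF one_ne_zero]
    obtain ⟨w, hw, -, h1', h2', -⟩ := exists_swap hF hm (orderOf_U hF one_ne_zero) ho h1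
      (mul_mem (mul_mem hg h1) (inv_mem hg)) inf_mem_ovoid (pt_mem_ovoid 0 0)
      (U_smul_inf hF 0 1)
      (by rw [← hg0, mul_smul, mul_smul, inv_smul_smul, U_smul_inf]) (pt_ne_inf 0 0).symm
    exact ⟨w, hw, h1', h2'⟩
  let P := {ac : F × F // U hF ac.1 ac.2 ∈ M}
  have horbmem : ∀ ac : P, pt m ac.1.1 ac.1.2 ∈
      MulAction.orbit M (Cfsg.suzukiPointInfinity F) := fun ac =>
    ⟨⟨U hF ac.1.1 ac.1.2 * w, mul_mem ac.2 hw⟩, by
      change (U hF ac.1.1 ac.1.2 * w) • Cfsg.suzukiPointInfinity F = _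
      rw [mul_smul, hwinf, U_smul_zero]⟩
  have hcard : Nat.card M = (Nat.card P + 1) * (Nat.card P * (2 ^ n - 1)) := by
    rw [← Subgroup.index_mul_card (MulAction.stabilizer M (Cfsg.suzukiPointInfinity F)),
      MulAction.index_stabilizer]
    congr 1
    · rw [← Nat.card_coe_set_eq, ← Finite.card_option]
      refine (Nat.card_eq_of_bijective
        (fun o : Option P => o.elim (⟨_, MulAction.mem_orbit_self _⟩ :
          MulAction.orbit M (Cfsg.suzukiPointInfinity F)) fun ac => ⟨_, horbmem ac⟩) ⟨?_, ?_⟩).symm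
      · rintro (_ | x) (_ | y) e
        · rfl
        · exact absurd (congrArg Subtype.val e).symm (pt_ne_inf _ _)
        · exact absurd (congrArg Subtype.val e) (pt_ne_inf _ _)
        · obtain ⟨e1, e2⟩ := pt_inj (congrArg Subtype.val e)
          exact congrArg some (Subtype.ext (Prod.ext e1 e2))
      · rintro ⟨p, ⟨h, hh⟩, rfl⟩
        by_cases hne : h • Cfsg.suzukiPointInfinity F = Cfsg.suzukiPointInfinity F
        · exact ⟨none, Subtype.ext hne.symm⟩
        · obtain ⟨a, c, hac, e⟩ := horb h hh hne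
          exact ⟨some ⟨(a, c), hac⟩, Subtype.ext e.symm⟩
    · rw [← hScard, ← Nat.card_prod]
      refine (Nat.card_eq_of_bijective (fun q : P × S =>
        (⟨⟨U hF q.1.1.1 q.1.1.2 * T hF (q.2 : Fˣ), mul_mem q.1.2 (hT _ q.2.2)⟩, by
          change (U hF q.1.1.1 q.1.1.2 * T hF (q.2 : Fˣ)) • Cfsg.suzukiPointInfinity F = _
          rw [mul_smul, T_smul_inf, U_smul_inf]⟩ :
          MulAction.stabilizer M (Cfsg.suzukiPointInfinity F))) ⟨?_, ?_⟩).symm
      · intro x y e
        obtain ⟨e1, e2, e3⟩ := U_T_inj hF (congrArg Subtype.val (congrArg Subtype.val e))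
        exact Prod.ext (Subtype.ext (Prod.ext e1 e2)) (Subtype.ext e3)
      · rintro ⟨⟨g, hg⟩, hfix⟩
        obtain ⟨a, c, k, rfl⟩ := eq_U_T_of_fix hF hm g hfix
        have hk : k ∈ S := ⟨a, c, hg⟩
        have hu : U hF a c ∈ M := by
          have := mul_mem hg (inv_mem (hT k hk))
          rwa [mul_inv_cancel_right] at this
        exact ⟨(⟨(a, c), hu⟩, ⟨k, hk⟩), rfl⟩
  -- the first coordinates
  have hfst : ∀ a c, U hF a c ∈ M → a ∈ Kf := by
    intro a c h
    by_cases ha : a = 0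
    · rw [ha]; exact hK0
    have hsq : U hF 0 (sig m a * a) ∈ M := by
      have h2 := mul_mem h h
      rwa [U_mul, add_self hF, add_self hF, zero_add] at h2
    have hmem : ((mu m (Units.mk0 a ha) : Fˣ) : F) ∈ Kset := by
      rw [mu_val, Units.val_mk0, mul_comm]
      exact hsq
    obtain ⟨l, hl, e⟩ := hrep _ hmem (Units.ne_zero _)
    have := hSK l hl
    rw [← mu_injective hF (Units.ext e)] at this
    exact this
  have hA : ∃ a c, U hF a c ∈ M ∧ a ≠ 0 := by
    by_contra hcon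
    push Not at hcon
    apply not_three_dvd hF hm
    have hP : Nat.card P = 2 ^ n := by
      rw [← hn]
      exact Nat.card_congr
        { toFun := fun ac => (⟨ac.1.2, by
            have h0 := hcon _ _ ac.2
            have h := ac.2
            rw [h0] at h
            exact h⟩ : Kf)
          invFun := fun x => ⟨(0, (x : F)), x.2⟩
          left_inv := fun ac => Subtype.ext (Prod.ext (hcon _ _ ac.2).symm rfl)
          right_inv := fun x => rfl }
    refine dvd_trans ?_ (Subgroup.card_subgroup_dvd_card M)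
    rw [hcard, hP]
    refine Dvd.dvd.mul_right ?_ _
    have h : 2 ^ n % 3 = 2 := by
      rw [hj, pow_succ, pow_mul, Nat.mul_mod, Nat.pow_mod]
      norm_num
    omega
  -- a root element with first coordinate one
  obtain ⟨c₁, hc₁⟩ : ∃ c₁, U hF 1 c₁ ∈ M := by
    obtain ⟨a, c, h, ha⟩ := hA
    have hk : (Units.mk0 a ha)⁻¹ ∈ S := inv_mem (hunit _ (hfst a c h))
    have := mul_mem (mul_mem (hT _ hk) h) (inv_mem (hT _ hk))
    rw [T_conj_U, Units.val_inv_eq_inv_val, Units.val_mk0, inv_mul_cancel₀ ha] at this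
    exact ⟨_, this⟩
  have hc₁K : c₁ ∈ Kf := by
    set x : F := (k₀ : F) with hxl
    have hx : x ∈ Kf := hSK k₀ hk₀
    have hx1 : x ≠ 1 := fun h => hk₀1 (Units.ext h)
    have hsx : sig m x ∈ Kf := hpow x hx _
    have hne : x + sig m x ≠ 0 := fun h => by
      rcases eq_zero_or_one_of_sig_eq hF (eq_of_add_eq_zero hF h).symm with h' | h'
      · exact k₀.ne_zero h'
      · exact hx1 h'
    have h1x : (1 : F) + x ≠ 0 := fun h => hx1 (eq_of_add_eq_zero hF h).symm
    have hy : Units.mk0 _ h1x ∈ S := hunit _ (Kf.add_mem Kf.one_mem hx)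
    have hs := mul_mem (mul_mem (hT _ hy) hc₁) (inv_mem (hT _ hy))
    rw [T_conj_U, Units.val_mk0, mul_one] at hs
    have ht := mul_mem (mul_mem (hT _ hk₀) hc₁) (inv_mem (hT _ hk₀))
    rw [T_conj_U, ← hxl, mul_one] at ht
    have hp := mul_mem hs (mul_mem hc₁ ht)
    rw [U_mul, U_mul, add_self hF, sig_add hF, sig_one, one_mul] at hp
    have hK' : c₁ * (x + sig m x) + x + (1 + sig m x) * (1 + x) ∈ Kf := by
      refine hmemK.2 ?_
      convert hp using 2
      linear_combination (-c₁ * (1 + x * sig m x)) * two_eq_zero hF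
    have h2 : c₁ * (x + sig m x) ∈ Kf := by
      have h3 := Kf.sub_mem (Kf.sub_mem hK'
        (Kf.mul_mem (Kf.add_mem Kf.one_mem hsx) (Kf.add_mem Kf.one_mem hx))) hx
      rwa [add_sub_cancel_right, add_sub_cancel_right] at h3
    have h4 := Kf.mul_mem h2 (Kf.inv_mem (Kf.add_mem hx hsx))
    rwa [mul_inv_cancel_right₀ hne] at h4
  -- all root elements over the subfield
  have hU : ∀ a b, a ∈ Kf → b ∈ Kf → U hF a b ∈ M := by
    intro a b ha hb
    by_cases ha0 : a = 0
    · rw [ha0]; exact hb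
    have hk : Units.mk0 a ha0 ∈ S := hunit _ ha
    have h := mul_mem (mul_mem (hT _ hk) hc₁) (inv_mem (hT _ hk))
    rw [T_conj_U, Units.val_mk0, mul_one] at h
    have hd : b + a * sig m a * c₁ ∈ Kf :=
      Kf.add_mem hb (Kf.mul_mem (Kf.mul_mem ha (hpow a ha _)) hc₁K)
    have h2 := mul_mem (hmemK.1 hd) h
    rw [U_mul, sig_zero, zero_mul, add_zero, zero_add, add_assoc, add_self hF, add_zero] at h2
    exact h2
  have hsnd : ∀ a c, U hF a c ∈ M → c ∈ Kf := by
    intro a c h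
    have ha := hfst a c h
    have h2 := mul_mem h (hU a 0 ha Kf.zero_mem)
    rw [U_mul, add_self hF, add_zero] at h2
    have hsa : sig m a ∈ Kf := hpow a ha _
    have h3 := Kf.sub_mem (hmemK.2 h2) (Kf.mul_mem hsa ha)
    rwa [add_sub_cancel_right] at h3
  have hP : Nat.card P = (2 ^ n) ^ 2 := by
    rw [sq, ← hn, ← Nat.card_prod]
    exact Nat.card_congr
      { toFun := fun ac => ((⟨ac.1.1, hfst _ _ ac.2⟩ : Kf), (⟨ac.1.2, hsnd _ _ ac.2⟩ : Kf))
        invFun := fun x => ⟨((x.1 : F), (x.2 : F)), hU _ _ x.1.2 x.2.2⟩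
        left_inv := fun ac => rfl
        right_inv := fun x => rfl }
  refine ⟨?_, ?_, fun a b ha hb => hU a b (hroot a ha) (hroot b hb),
    fun k hk => hT k (hunit k (hroot _ hk))⟩
  · rw [hcard, hP]
    ring
  -- `W` belongs to `M`
  obtain ⟨l, hl⟩ := eq_T_of_fix hF hm (W hF * w) (by rw [mul_smul, hwinf, W_smul_zero])
    (by rw [mul_smul, hw0, W_smul_inf])
  have hwl : w = W hF * T hF l := by rw [← hl, ← mul_assoc, W_mul_W, one_mul]
  have hlS : l ∈ S := by
    have hl0 : (l : F) ≠ 0 := l.ne_zero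
    have hfz : fz m (l : F) 0 = sig m (l : F) * (l : F) ^ 2 := by
      simp [fz, sig_zero]
    have hfne : fz m (l : F) 0 ≠ 0 := by
      rw [hfz]
      exact mul_ne_zero (sig_ne_zero hl0) (pow_ne_zero _ hl0)
    have hh : w * U hF 1 0 * w ∈ M := mul_mem (mul_mem hw (hU 1 0 Kf.one_mem Kf.zero_mem)) hw
    have hpt : (w * U hF 1 0 * w) • Cfsg.suzukiPointInfinity F
        = pt m (0 / fz m (l : F) 0) ((l : F) / fz m (l : F) 0) := by
      rw [mul_smul, mul_smul, hwinf, U_smul_zero, hwl, mul_smul, T_smul_pt, mul_one, mul_zero]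
      exact wel_smul_pt hF hfne
    obtain ⟨a, c, hac, e⟩ := horb _ hh (by rw [hpt]; exact pt_ne_inf _ _)
    obtain ⟨-, e2⟩ := pt_inj (hpt.symm.trans e)
    have hc := hsnd a c hac
    rw [← e2, hfz] at hc
    have hmu' : ((mu m l : Fˣ) : F) ∈ Kset := by
      have e3 : ((mu m l : Fˣ) : F) = ((l : F) / (sig m (l : F) * (l : F) ^ 2))⁻¹ := by
        rw [mu_val]
        field_simp
      rw [e3]
      exact Kf.inv_mem hc
    obtain ⟨l', hl', e'⟩ := hrep _ hmu' (Units.ne_zero _)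
    rw [mu_injective hF (Units.ext e')]
    exact hl'
  have hfin := mul_mem hw (inv_mem (hT l hlS))
  rwa [hwl, mul_inv_cancel_right] at hfin

end Cfsg.Agent.LocalEven64.SzSub
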