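import Cfsg.Agent.LocalEven64.SzSub.SolCases

/-!
# Solubilizer sizes in a minimal simple Suzuki group
-/

set_option autoImplicit false

namespace Cfsg.Agent.LocalEven64.SzSub

open Cfsg.Agent.Suzuki

variable {F : Type*} [Field F] [Fintype F] {m : ℕ} (hF : Fintype.card F = 2 ^ (2 * m + 1))
include hF

local notation "∞'" => Cfsg.suzukiPointInfinity F
local notation "G" => Cfsg.Sz F m
local notation "B" => MulAction.stabilizer (Cfsg.Sz F m) (Cfsg.suzukiPointInfinity F)

theorem isConj_U_zero {b b' : F} (hb : b ≠ 0) (hb' : b' ≠ 0) : IsConj (U hF 0 b) (U hF 0 b') := by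
  obtain ⟨k, hk⟩ := mu_surjective hF (Units.mk0 (b' * b⁻¹) (mul_ne_zero hb' (inv_ne_zero hb)))
  refine isConj_iff.2 ⟨T hF k, ?_⟩
  rw [T_conj_U, mul_zero, ← mu_val, hk, Units.val_mk0, inv_mul_cancel_right₀ hb]

theorem isConj_involution (hm : 1 ≤ m) {b : F} (hb : b ≠ 0) {i : G} (hi : orderOf i = 2) :
    IsConj (U hF 0 b) i := by
  obtain ⟨p, hp, hip⟩ := exists_fix hF hm hi
  obtain ⟨g, hg⟩ := exists_smul_inf hF p hp
  have ho : orderOf (g⁻¹ * i * g) = 2 := by
    have h := Torus.orderOf_conj' g⁻¹ i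
    rw [inv_inv] at h
    rw [h, hi]
  obtain ⟨b', hb', e⟩ := involution_at_inf hF hm ho
    (by rw [mul_smul, mul_smul, hg, hip, ← hg, inv_smul_smul])
  refine (isConj_U_zero hF hb hb').trans (isConj_iff.2 ⟨g, ?_⟩)
  rw [← e]; group

theorem commute_mem_stab {b : F} (hb : b ≠ 0) (y : G) (hy : y * U hF 0 b = U hF 0 b * y) :
    y ∈ B := by
  have h : U hF 0 b • (y • ∞') = y • ∞' := by rw [← mul_smul, ← hy, mul_smul, U_smul_inf]
  exact (U_fix hF (smul_mem_ovoid y inf_mem_ovoid) h).resolve_right ((U_ne_one_iff hF).2 hb)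

theorem stab_sq (hm : 1 ≤ m) (b : F) (y : G) (hy : y ∈ B) :
    U hF 0 b * (y * U hF 0 b * y⁻¹) * (U hF 0 b * (y * U hF 0 b * y⁻¹)) = 1 := by
  obtain ⟨a, c, k, rfl⟩ := eq_U_T_of_fix hF hm y hy
  rw [stab_conj_U, U_zero_mul, U_zero_mul, add_self hF, U_zero]

theorem card_cent_involution (hm : 1 ≤ m) {b : F} (hb : b ≠ 0) :
    Nat.card (Subgroup.centralizer ({U hF 0 b} : Set G)) = Fintype.card F ^ 2 := by
  have h : Subgroup.centralizer ({U hF 0 b} : Set G) = USub hF := by
    refine le_antisymm (centralizer_U_le hF hm ((U_ne_one_iff hF).2 hb)) ?_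
    rintro _ ⟨a, c, rfl⟩
    exact Subgroup.mem_centralizer_singleton_iff.2 (U_zero_comm hF a c b)
  rw [h, card_USub, hF]

theorem card_conj_two (hm : 1 ≤ m) {b : F} (hb : b ≠ 0) {X : Subgroup G} (hX : Torus X)
    (hne : ∃ i ∈ Subgroup.normalizer (X : Set G), orderOf i = 2) :
    Nat.card {n : G // n ∈ Subgroup.normalizer (X : Set G) ∧ IsConj (U hF 0 b) n} = Nat.card X := by
  obtain ⟨i, hi, hio⟩ := hne
  rw [← hX.card_two hi hio]
  refine Nat.card_congr (Equiv.subtypeEquivRight fun n => and_congr_right fun _ =>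
    ⟨fun h => ?_, isConj_involution hF hm hb⟩)
  obtain ⟨c, rfl⟩ := isConj_iff.1 h
  rw [Torus.orderOf_conj', orderOf_U hF hb]

theorem exists_two_T : ∃ i ∈ Subgroup.normalizer ((THom hF).range : Set G), orderOf i = 2 := by
  refine ⟨W hF, W_mem_normalizer hF, orderOf_eq_prime (by rw [sq, W_mul_W]) fun h => ?_⟩
  have h1 := W_smul_inf (m := m) hF
  rw [h, one_smul] at h1
  exact pt_ne_inf 0 0 h1.symm

/-- The solubilizer of an element fixing only `∞`, split up. -/
theorem card_split (hm : 1 ≤ m) (hp : (2 * m + 1).Prime) {g₁ g₂ : G} (H : Tori g₁ g₂) {x z : G}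
    (hz : z ∈ Subgroup.zpowers x) (hzo : orderOf z = 2) (hxB : x ∈ B)
    (honly : ∀ p ∈ Cfsg.suzukiOvoid F m, x • p = p → p = ∞')
    (hC : ∀ y, y * z = z * y → y ∈ B) :
    Nat.card {y : G // SolP x y} = Nat.card B
      + (Nat.card {y : G // y ∉ B ∧ InN (THom hF).range x y}
      + (Nat.card {y : G // y ∉ B ∧ InN (Subgroup.centralizer {g₁}) x y}
      + Nat.card {y : G // y ∉ B ∧ InN (Subgroup.centralizer {g₂}) x y})) := by
  classical
  have hset : {y : G | SolP x y} = (B : Set G) ∪ ({y | y ∉ B ∧ InN (THom hF).range x y}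
      ∪ ({y | y ∉ B ∧ InN (Subgroup.centralizer {g₁}) x y}
      ∪ {y | y ∉ B ∧ InN (Subgroup.centralizer {g₂}) x y})) := by
    ext y
    simp only [Set.mem_setOf_eq, Set.mem_union, SetLike.mem_coe]
    constructor
    · intro hs
      by_cases hy : y ∈ B
      · exact Or.inl hy
      rcases H.solP_cases hF hm hs with ⟨p, hp', hxp, hyp⟩ | h | h | h
      · rw [honly p hp' hxp] at hyp
        exact absurd hyp hy
      · exact Or.inr (Or.inl ⟨hy, h⟩)
      · exact Or.inr (Or.inr (Or.inl ⟨hy, h⟩))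
      · exact Or.inr (Or.inr (Or.inr ⟨hy, h⟩))
    · rintro (h | ⟨-, h⟩ | ⟨-, h⟩ | ⟨-, h⟩)
      · exact solP_of_point hF hm hp inf_mem_ovoid hxB h
      · exact solP_of_inN hF hm hp (normalizer_T_ne_top hF hm) h
      · exact solP_of_inN hF hm hp (normalizer_cent_ne_top hF hm H.fpf₁) h
      · exact solP_of_inN hF hm hp (normalizer_cent_ne_top hF hm H.fpf₂) h
  have hT := torus_T hF hm
  have h1 := torus_cent hF hm H.fpf₁
  have h2 := torus_cent hF hm H.fpf₂
  have hdis : ∀ (X Y : Subgroup G), Torus X → Torus Y → Nat.card X ≠ Nat.card Y →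
      Disjoint {y | y ∉ B ∧ InN X x y} {y | y ∉ B ∧ InN Y x y} := by
    intro X Y hX hY hne
    rw [Set.disjoint_left]
    rintro y ⟨hy, h, hx1, hy1⟩ ⟨-, k, hx2, hy2⟩
    exact hne (hX.card_eq_of_pair hY hz hzo hC hy hx1 hy1 hx2 hy2)
  have hdisB : ∀ (X : Subgroup G), Disjoint (B : Set G) {y | y ∉ B ∧ InN X x y} := fun X =>
    Set.disjoint_left.2 fun y hy h => h.1 hy
  have e1 : Nat.card (THom hF).range ≠ Nat.card (Subgroup.centralizer ({g₁} : Set G)) := by
    rw [card_range_T, H.card₁]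
    have := (q_facts hF hm).1
    generalize 2 ^ (m + 1) = r
    omega
  have hr2 := two_r_le hF hm
  have hrpos : 0 < 2 ^ (m + 1) := Nat.two_pow_pos _
  have e2 : Nat.card (THom hF).range ≠ Nat.card (Subgroup.centralizer ({g₂} : Set G)) := by
    rw [card_range_T, H.card₂]
    have : 4 ≤ 2 ^ (m + 1) := le_trans (by norm_num) (Nat.pow_le_pow_right two_pos (show 2 ≤ m + 1 by omega))
    omega
  have e3 : Nat.card (Subgroup.centralizer ({g₁} : Set G))
      ≠ Nat.card (Subgroup.centralizer ({g₂} : Set G)) := by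
    rw [H.card₁, H.card₂]; omega
  have hc : Nat.card {y : G // SolP x y} = ({y : G | SolP x y}).ncard := Nat.card_coe_set_eq _
  rw [hc, hset, Set.ncard_union_eq (by
      rw [Set.disjoint_union_right, Set.disjoint_union_right]
      exact ⟨hdisB _, hdisB _, hdisB _⟩) (Set.toFinite _) (Set.toFinite _),
    Set.ncard_union_eq (by
      rw [Set.disjoint_union_right]
      exact ⟨hdis _ _ hT h1 e1, hdis _ _ hT h2 e2⟩) (Set.toFinite _) (Set.toFinite _),
    Set.ncard_union_eq (hdis _ _ h1 h2 e3) (Set.toFinite _) (Set.toFinite _)]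
  simp only [← Nat.card_coe_set_eq]
  rfl

theorem card_sol_U_zero (hm : 1 ≤ m) (hp : (2 * m + 1).Prime) {b : F} (hb : b ≠ 0) :
    Nat.card {y : G // SolP (U hF 0 b) y}
      = Fintype.card F ^ 2 * (4 * Fintype.card F - 3) := by
  obtain ⟨g₁, g₂, H⟩ := exists_tori hF hm
  have hzo := orderOf_U hF hb
  have hz : U hF 0 b ∈ Subgroup.zpowers (U hF 0 b) := Subgroup.mem_zpowers _
  have hC := fun y => commute_mem_stab hF hb y
  rw [card_split hF hm hp H hz hzo (U_smul_inf hF 0 b)
    (fun p hp' h => (U_fix hF hp' h).resolve_right ((U_ne_one_iff hF).2 hb)) hC]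
  have hne1 := exists_two (F := F) (dvd_mul_right 2 2) H.norm₁
  have hne2 := exists_two (F := F) (dvd_mul_right 2 2) H.norm₂
  have hneT := exists_two_T hF
  rw [show Nat.card {y : G // y ∉ B ∧ InN (THom hF).range (U hF 0 b) y} = _ from
      (torus_T hF hm).card_pairs hz hzo hC (stab_sq hF hm b) hneT
        (card_conj_two hF hm hb (torus_T hF hm) hneT),
    show Nat.card {y : G // y ∉ B ∧ InN (Subgroup.centralizer {g₁}) (U hF 0 b) y} = _ from
      (torus_cent hF hm H.fpf₁).card_pairs hz hzo hC (stab_sq hF hm b) hne1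
        (card_conj_two hF hm hb (torus_cent hF hm H.fpf₁) hne1),
    show Nat.card {y : G // y ∉ B ∧ InN (Subgroup.centralizer {g₂}) (U hF 0 b) y} = _ from
      (torus_cent hF hm H.fpf₂).card_pairs hz hzo hC (stab_sq hF hm b) hne2
        (card_conj_two hF hm hb (torus_cent hF hm H.fpf₂) hne2),
    card_stabilizer_inf hF hm, card_cent_involution hF hm hb, card_range_T, H.card₁, H.card₂, ← hF]
  have h8 := (q_facts hF hm).1
  have hr := two_r_le hF hm
  obtain ⟨q, hq⟩ : ∃ q, q = Fintype.card F := ⟨_, rfl⟩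
  obtain ⟨r, hr'⟩ : ∃ r, r = 2 ^ (m + 1) := ⟨_, rfl⟩
  rw [← hq, ← hr'] at hr ⊢
  rw [← hq] at h8
  rw [show q - 1 - 1 = q - 2 by omega, show q + r + 1 - 1 = q + r by omega,
    show q - r + 1 - 1 = q - r by omega, ← mul_add, ← mul_add, ← mul_add]
  congr 1
  omega

/-- `u ↦ σ u + u`. -/
noncomputable def phi : F →+ F where
  toFun u := sig m u + u
  map_zero' := by rw [sig_zero, add_zero]
  map_add' u v := by rw [sig_add hF]; ring

theorem phi_ne_one (u : F) : sig m u + u ≠ 1 := by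
  intro h
  have h1 : sig m u = u + 1 := by linear_combination h - u * two_eq_zero hF
  have h2 := sig_sig hF (m := m) u
  rw [h1, sig_add hF, sig_one, h1, add_assoc, add_self hF, add_zero] at h2
  rcases eq_or_ne u 0 with rfl | hu
  · rw [sig_zero, zero_add] at h1; exact zero_ne_one h1
  · have h3 : u = 1 := mul_left_cancel₀ hu (by linear_combination -h2)
    subst h3
    rw [sig_one, add_self hF] at h1
    exact one_ne_zero h1

theorem phi_range_index : (phi hF).range.index = 2 := by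
  classical
  set f := phi hF with hf
  have hker : Nat.card f.ker = 2 := by
    have he : (f.ker : Set F) = {0, 1} := by
      ext u
      constructor
      · intro hu
        exact (eq_zero_or_one_of_sig_eq hF (eq_of_add_eq_zero hF (show sig m u + u = 0 from hu)))
      · rintro (rfl | rfl)
        · exact map_zero f
        · change sig m (1 : F) + 1 = 0
          rw [sig_one, add_self hF]
    rw [← SetLike.coe_sort_coe, Nat.card_coe_set_eq, he, Set.ncard_pair zero_ne_one]
  have h1 := f.ker.index_mul_card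
  rw [AddSubgroup.index_ker, hker] at h1
  have h2 := f.range.index_mul_card
  have hpos : 0 < Nat.card f.range := Nat.card_pos
  rw [← h1, mul_comm (Nat.card f.range) 2] at h2
  exact Nat.eq_of_mul_eq_mul_right hpos h2

/-- Every class of the representatives `U(1, c)`. -/
theorem isConj_U_one (c c' : F) :
    IsConj (U hF 1 c) (U hF 1 c') ∨ IsConj (U hF 1 (c + 1)) (U hF 1 c') := by
  have key : ∀ d : F, c' + d ∈ (phi hF).range → IsConj (U hF 1 d) (U hF 1 c') := by
    rintro d ⟨u, hu⟩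
    refine isConj_iff.2 ⟨U hF u 0, ?_⟩
    rw [mul_inv_eq_iff_eq_mul, U_mul, U_mul, sig_one, add_comm u 1]
    congr 1
    have hu' : sig m u + u = c' + d := hu
    linear_combination hu' - u * two_eq_zero hF + d * two_eq_zero hF
  have h := AddSubgroup.add_mem_iff_of_index_two (phi_range_index hF) (a := c' + c) (b := 1)
  have h1 : (1 : F) ∉ (phi hF).range := fun ⟨u, hu⟩ => phi_ne_one hF u hu
  by_cases hc : c' + c ∈ (phi hF).range
  · exact Or.inl (key c hc)
  · refine Or.inr (key (c + 1) ?_)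
    rw [← add_assoc, h]
    exact iff_of_false hc h1

theorem U_one_inv (c : F) : (U hF 1 c)⁻¹ = U hF 1 (c + 1) := by
  rw [U_inv, sig_one, one_mul]

theorem order_four (c : F) : orderOf (U hF 1 c) = 4 := by
  haveI : Fact (Nat.Prime 2) := ⟨Nat.prime_two⟩
  have hsq : U hF 1 c * U hF 1 c = U hF 0 1 := by
    rw [U_mul, add_self hF, add_self hF, sig_one, one_mul, zero_add]
  refine orderOf_eq_prime_pow (p := 2) (n := 1) ?_ ?_
  · rw [pow_one, sq, hsq]
    exact (U_ne_one_iff hF).2 one_ne_zero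
  · rw [show 2 ^ (1 + 1) = 2 * 2 by norm_num, pow_mul, sq, sq, hsq, U_zero_mul, add_self hF, U_zero]

theorem U_one_sq (c : F) : U hF 1 c * U hF 1 c = U hF 0 1 := by
  rw [U_mul, add_self hF, add_self hF, sig_one, one_mul, zero_add]

/-- An element of order four is conjugate to some `U(1, c)`. -/
theorem exists_U_one (hm : 1 ≤ m) {n : G} (hn : orderOf n = 4) :
    ∃ c, IsConj (U hF 1 c) n := by
  have hno : orderOf (n ^ 2) = 2 := by rw [orderOf_pow' n two_ne_zero, hn]; decide
  obtain ⟨p, hp, hip⟩ := exists_fix hF hm hno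
  have hnp : n • p = p := fix_unique hF hm hno (smul_mem_ovoid n hp) hp
    (by rw [← mul_smul, (Commute.pow_self n 2).eq, mul_smul, hip]) hip
  obtain ⟨g, hg⟩ := exists_smul_inf hF p hp
  set n' := g⁻¹ * n * g with hn'
  have ho : orderOf n' = 4 := by
    have h := Torus.orderOf_conj' g⁻¹ n
    rw [inv_inv] at h
    rw [hn', h, hn]
  have hfix : n' • ∞' = ∞' := by rw [hn', mul_smul, mul_smul, hg, hnp, ← hg, inv_smul_smul]
  obtain ⟨a, e, hae⟩ := chi_spec hF hm ⟨n', hfix⟩
  have h4 : (chi hF hm ⟨n', hfix⟩) ^ 4 = 1 := by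
    rw [← map_pow, ← map_one (chi hF hm)]
    congr 1
    refine Subtype.ext (show n' ^ 4 = 1 from ?_)
    have := pow_orderOf_eq_one n'
    rwa [ho] at this
  have hk : chi hF hm ⟨n', hfix⟩ = 1 := by
    refine units_eq_one_of_sq hF _ (units_eq_one_of_sq hF _ ?_)
    rw [← h4]
    simp only [pow_succ, pow_zero, one_mul, mul_assoc]
  rw [hk, T_one, mul_one] at hae
  change n' = U hF a e at hae
  have ha : a ≠ 0 := by
    intro ha
    subst ha
    rw [hae] at ho
    rcases eq_or_ne e 0 with rfl | he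
    · rw [U_zero, orderOf_one] at ho; omega
    · rw [orderOf_U hF he] at ho; omega
  have hla : (((Units.mk0 a ha)⁻¹ : Fˣ) : F) * a = 1 := by
    rw [Units.val_inv_eq_inv_val, Units.val_mk0, inv_mul_cancel₀ ha]
  set l := (Units.mk0 a ha)⁻¹ with hl
  refine ⟨(l : F) * sig m (l : F) * e, IsConj.symm (isConj_iff.2 ⟨T hF l * g⁻¹, ?_⟩)⟩
  calc T hF l * g⁻¹ * n * (T hF l * g⁻¹)⁻¹
      = T hF l * n' * (T hF l)⁻¹ := by rw [hn']; group
    _ = _ := by rw [hae, T_conj_U, hla]

theorem conj_or_inv (hm : 1 ≤ m) (c : F) (n : G) (hn : orderOf n = 4) :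
    IsConj (U hF 1 c) n ∨ IsConj (U hF 1 c) n⁻¹ := by
  obtain ⟨c', hc'⟩ := exists_U_one hF hm hn
  rcases isConj_U_one hF c c' with h | h
  · exact Or.inl (h.trans hc')
  · refine Or.inr ?_
    have h1 := h.trans hc'
    rw [← U_one_inv] at h1
    obtain ⟨g, hg⟩ := isConj_iff.1 h1
    refine isConj_iff.2 ⟨g, ?_⟩
    rw [← hg]
    group

theorem not_isConj_inv (hm : 1 ≤ m) (c : F) : ¬ IsConj (U hF 1 c) (U hF 1 c)⁻¹ := by
  rw [U_one_inv, isConj_iff]
  rintro ⟨g, hg⟩
  have hne : U hF 1 (c + 1) ≠ 1 := fun h =>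
    one_ne_zero (α := F) (U_inj hF (h.trans (U_zero hF).symm)).1
  have hfix : U hF 1 (c + 1) • (g • ∞') = g • ∞' := by
    rw [← hg, mul_smul, mul_smul, inv_smul_smul, U_smul_inf]
  obtain ⟨u, v, k, rfl⟩ := eq_U_T_of_fix hF hm g
    ((U_fix hF (smul_mem_ovoid g inf_mem_ovoid) hfix).resolve_right hne)
  rw [mul_inv_eq_iff_eq_mul] at hg
  have h1 : U hF u v * T hF k * (U hF 1 c * T hF 1) = U hF 1 (c + 1) * T hF 1 * (U hF u v * T hF k) := by
    rw [T_one, mul_one, mul_one, hg]
  rw [stab_mul, stab_mul] at h1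
  obtain ⟨e1, e2, -⟩ := U_T_inj hF h1
  have hk : (k : F) = 1 := by
    rw [Units.val_one, one_mul, mul_one] at e1
    linear_combination e1
  refine phi_ne_one hF u ?_
  simp only [hk, sig_one, Units.val_one, mul_one, one_mul] at e2
  linear_combination e2 + u * two_eq_zero hF

theorem card_cent_four (hm : 1 ≤ m) (c : F) :
    Nat.card (Subgroup.centralizer ({U hF 1 c} : Set G)) = 2 * Fintype.card F := by
  classical
  have hiff : ∀ u v : F, U hF u v * U hF 1 c = U hF 1 c * U hF u v ↔ sig m u + u = 0 := by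
    intro u v
    rw [U_mul, U_mul, sig_one]
    constructor
    · intro h
      linear_combination (U_inj hF h).2 + u * two_eq_zero hF
    · intro h
      rw [add_comm u 1]
      congr 1
      linear_combination h - u * two_eq_zero hF
  let el : Bool → F := fun b => if b then 1 else 0
  have hel : ∀ b, sig m (el b) + el b = 0 := by
    intro b; cases b
    · simp [el, sig_zero]
    · simp [el, sig_one, add_self hF]
  have hf : Function.Bijective (fun p : Bool × F =>
      (⟨U hF (el p.1) p.2, Subgroup.mem_centralizer_singleton_iff.2 ((hiff _ _).2 (hel p.1))⟩ :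
        Subgroup.centralizer ({U hF 1 c} : Set G))) := by
    constructor
    · rintro ⟨b, v⟩ ⟨b', v'⟩ e
      obtain ⟨e1, e2⟩ := U_inj hF (congrArg Subtype.val e)
      refine Prod.ext ?_ e2
      cases b <;> cases b' <;> simp [el] at e1 ⊢
    · rintro ⟨g, hg⟩
      have hne : U hF 1 c ≠ 1 := fun h =>
        one_ne_zero (α := F) (U_inj hF (h.trans (U_zero hF).symm)).1
      obtain ⟨u, v, rfl⟩ := centralizer_U_le hF hm hne hg
      have hu := (hiff u v).1 (Subgroup.mem_centralizer_singleton_iff.1 hg)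
      rcases eq_zero_or_one_of_sig_eq hF (eq_of_add_eq_zero hF hu) with rfl | rfl
      · exact ⟨(false, v), rfl⟩
      · exact ⟨(true, v), rfl⟩
  rw [← Nat.card_eq_of_bijective _ hf, Nat.card_prod, Nat.card_eq_fintype_card,
    Nat.card_eq_fintype_card, Fintype.card_bool]

theorem card_sol_U_one (hm : 1 ≤ m) (hp : (2 * m + 1).Prime) (c : F) :
    Nat.card {y : G // SolP (U hF 1 c) y}
      = Fintype.card F ^ 2 * (Fintype.card F + 3) := by
  obtain ⟨g₁, g₂, H⟩ := exists_tori hF hm
  have hzo := orderOf_U hF (one_ne_zero (α := F))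
  have hz : U hF 0 1 ∈ Subgroup.zpowers (U hF 1 c) := by
    rw [← U_one_sq hF c]
    exact mul_mem (Subgroup.mem_zpowers _) (Subgroup.mem_zpowers _)
  have hne : U hF 1 c ≠ 1 := fun h =>
    one_ne_zero (α := F) (U_inj hF (h.trans (U_zero hF).symm)).1
  have hC := fun y => commute_mem_stab hF (one_ne_zero (α := F)) y
  rw [card_split hF hm hp H hz hzo (U_smul_inf hF 1 c)
    (fun p hp' h => (U_fix hF hp' h).resolve_right hne) hC]
  have hT0 : Nat.card {y : G // y ∉ B ∧ InN (THom hF).range (U hF 1 c) y} = 0 := by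
    haveI : IsEmpty {y : G // y ∉ B ∧ InN (THom hF).range (U hF 1 c) y} := ⟨fun ⟨y, _, h, hx, _⟩ => by
      have h4 := Torus.orderOf_conj' h⁻¹ (U hF 1 c)
      rw [inv_inv, order_four hF c] at h4
      have hd := orderOf_dvd_natCard (⟨_, hx⟩ : Subgroup.normalizer ((THom hF).range : Set G))
      rw [Subgroup.orderOf_mk, h4, card_normalizer_T hF hm] at hd
      obtain ⟨s, hs⟩ := odd_card_units hF
      omega⟩
    exact Nat.card_of_isEmpty
  have hne1 := exists_two (F := F) (dvd_mul_right 2 2) H.norm₁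
  have hne2 := exists_two (F := F) (dvd_mul_right 2 2) H.norm₂
  rw [hT0,
    show Nat.card {y : G // y ∉ B ∧ InN (Subgroup.centralizer {g₁}) (U hF 1 c) y} = _ from
      (torus_cent hF hm H.fpf₁).card_pairs hz hzo hC (stab_sq hF hm 1) hne1
        ((torus_cent hF hm H.fpf₁).card_four H.norm₁ (order_four hF c) (conj_or_inv hF hm c)
          (not_isConj_inv hF hm c) hne1),
    show Nat.card {y : G // y ∉ B ∧ InN (Subgroup.centralizer {g₂}) (U hF 1 c) y} = _ from
      (torus_cent hF hm H.fpf₂).card_pairs hz hzo hC (stab_sq hF hm 1) hne2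
        ((torus_cent hF hm H.fpf₂).card_four H.norm₂ (order_four hF c) (conj_or_inv hF hm c)
          (not_isConj_inv hF hm c) hne2),
    card_stabilizer_inf hF hm, card_cent_four hF hm c, H.card₁, H.card₂, ← hF]
  have h8 := (q_facts hF hm).1
  have hr := two_r_le hF hm
  obtain ⟨q, hq⟩ : ∃ q, q = Fintype.card F := ⟨_, rfl⟩
  obtain ⟨r, hr'⟩ : ∃ r, r = 2 ^ (m + 1) := ⟨_, rfl⟩
  rw [← hq, ← hr'] at hr ⊢
  rw [← hq] at h8
  rw [show q + r + 1 - 1 = q + r by omega, show q - r + 1 - 1 = q - r by omega, zero_add, ← mul_add,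
    show q + r + (q - r) = 2 * q by omega,
    show q ^ 2 * (q + 3) = q ^ 2 * (q - 1) + q ^ 2 * 4 by rw [← mul_add]; congr 1; omega]
  ring

theorem card_sol_T (hm : 1 ≤ m) (hp : (2 * m + 1).Prime) {k : Fˣ} (hk : k ≠ 1) :
    Nat.card {y : G // SolP (T hF k) y}
      = 2 * Fintype.card F ^ 2 * (Fintype.card F - 1) := by
  classical
  obtain ⟨g₁, g₂, H⟩ := exists_tori hF hm
  set B0 := MulAction.stabilizer G (pt m (0 : F) 0) with hB0
  set N := Subgroup.normalizer ((THom hF).range : Set G) with hN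
  have hk1 : T hF k ≠ 1 := fun h => hk (T_inj hF (h.trans (T_one hF).symm))
  have hodd : Odd (orderOf (T hF k)) := Odd.of_dvd_nat (odd_card_units hF) (by
    rw [← card_range_T hF (m := m), ← Subgroup.orderOf_mk (T hF k) (show T hF k ∈ (THom hF).range from ⟨k, rfl⟩)]
    exact orderOf_dvd_natCard _)
  have hTN : T hF k ∈ N := T_mem_normalizer hF k
  have hset : {y : G | SolP (T hF k) y} = (B : Set G) ∪ (B0 : Set G) ∪ (N : Set G) := by
    ext y
    simp only [Set.mem_setOf_eq, Set.mem_union, SetLike.mem_coe]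
    constructor
    · intro hs
      rcases H.solP_cases hF hm hs with ⟨p, hp', hxp, hyp⟩ | ⟨h, hx, hy⟩ | ⟨h, hx, -⟩ | ⟨h, hx, -⟩
      · rcases T_fix hF hp' hxp with rfl | rfl | e
        · exact Or.inl (Or.inl hyp)
        · exact Or.inl (Or.inr hyp)
        · exact absurd e hk
      · right
        have ho := Torus.orderOf_conj' h⁻¹ (T hF k)
        rw [inv_inv] at ho
        have h1 := mem_of_odd_order (w := 2) (by norm_num)
          (by rw [card_normalizer_T hF hm, card_range_T, mul_comm]) hx (ho ▸ hodd)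
        have hh : h⁻¹ ∈ N := (torus_T hF hm).tsi (u := T hF k) ⟨k, rfl⟩ hk1 (by rwa [inv_inv])
        have : y = h * (h⁻¹ * y * h) * h⁻¹ := by group
        rw [this]
        exact mul_mem (mul_mem (inv_mem_iff.1 hh) hy) hh
      all_goals
        exfalso
        have ho := Torus.orderOf_conj' h⁻¹ (T hF k)
        rw [inv_inv] at ho
      · have h1 := mem_of_odd_order dvd_rfl H.norm₁ hx (ho ▸ hodd)
        refine ((torus hF hm H.fpf₁).2 _ h1 fun e => hk1 ?_).1 (h⁻¹ • ∞') (smul_mem_ovoid _ inf_mem_ovoid)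
          (by rw [mul_smul, mul_smul, smul_inv_smul, T_smul_inf])
        rw [mul_assoc, inv_mul_eq_one, eq_comm, mul_eq_right] at e; exact e
      · have h1 := mem_of_odd_order dvd_rfl H.norm₂ hx (ho ▸ hodd)
        refine ((torus hF hm H.fpf₂).2 _ h1 fun e => hk1 ?_).1 (h⁻¹ • ∞') (smul_mem_ovoid _ inf_mem_ovoid)
          (by rw [mul_smul, mul_smul, smul_inv_smul, T_smul_inf])
        rw [mul_assoc, inv_mul_eq_one, eq_comm, mul_eq_right] at e; exact e
    · rintro ((h | h) | h)
      · exact solP_of_point hF hm hp inf_mem_ovoid (T_smul_inf hF k) h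
      · exact solP_of_point hF hm hp (pt_mem_ovoid 0 0) (T_smul_zero hF k) h
      · exact solP_of_le hF hm hp (normalizer_T_ne_top hF hm) hTN h
  have hBB : (B : Set G) ∩ (B0 : Set G) = ((THom hF).range : Set G) := by
    ext y
    constructor
    · rintro ⟨h1, h2⟩
      obtain ⟨l, rfl⟩ := eq_T_of_fix hF hm y h1 h2
      exact ⟨l, rfl⟩
    · rintro ⟨l, rfl⟩
      exact ⟨T_smul_inf hF l, T_smul_zero hF l⟩
  have hBN : ((B : Set G) ∪ (B0 : Set G)) ∩ (N : Set G) = ((THom hF).range : Set G) := by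
    ext y
    constructor
    · rintro ⟨h1, h2⟩
      obtain ⟨k', e⟩ := (Subgroup.mem_normalizer_iff.1 h2 _).1 (⟨k, rfl⟩ : T hF k ∈ (THom hF).range)
      rcases swap_of_conj_T hF hm (k' := k') hk e.symm with ⟨l, rfl⟩ | ⟨l, rfl⟩
      · exact ⟨l, rfl⟩
      · exfalso
        rcases h1 with h1 | h1
        · have h1 : (W hF * T hF l) • ∞' = ∞' := h1
          rw [mul_smul, T_smul_inf, W_smul_inf] at h1
          exact pt_ne_inf 0 0 h1
        · have h1 : (W hF * T hF l) • pt m (0 : F) 0 = pt m 0 0 := h1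
          rw [mul_smul, T_smul_zero, W_smul_zero] at h1
          exact pt_ne_inf 0 0 h1.symm
    · rintro ⟨l, rfl⟩
      exact ⟨Or.inl (T_smul_inf hF l), T_mem_normalizer hF l⟩
  have hB0card : Nat.card B0 = Nat.card B := by
    rw [hB0, ← W_smul_inf (m := m) hF, MulAction.stabilizer_smul_eq_stabilizer_map_conj]
    exact Subgroup.card_map_of_injective (MulAut.conj _).injective
  have e1 := Set.ncard_union_add_ncard_inter (B : Set G) (B0 : Set G)
  have e2 := Set.ncard_union_add_ncard_inter ((B : Set G) ∪ (B0 : Set G)) (N : Set G)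
  rw [hBB] at e1
  rw [hBN] at e2
  have hc : Nat.card {y : G // SolP (T hF k) y} = ({y : G | SolP (T hF k) y}).ncard :=
    Nat.card_coe_set_eq _
  rw [hc, hset]
  simp only [← Nat.card_coe_set_eq, SetLike.coe_sort_coe] at e1 e2 ⊢
  rw [hB0card, card_range_T, card_stabilizer_inf hF hm, ← hF] at e1
  rw [hN] at e2 ⊢
  rw [card_normalizer_T hF hm, card_range_T] at e2
  have h8 := (q_facts hF hm).1
  rw [mul_assoc]
  generalize Fintype.card F ^ 2 * (Fintype.card F - 1) = P at e1 ⊢
  omega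

theorem no_U (hm : 1 ≤ m) {a b : F} {h x : G} (e : x = h * U hF a b * h⁻¹)
    (ho : Odd (orderOf x)) : x = 1 := by
  have h4 : U hF a b ^ 4 = 1 := by
    have := Monoid.pow_exponent_eq_one (⟨U hF a b, a, b, rfl⟩ : USub hF)
    rw [exponent_USub] at this
    exact congrArg Subtype.val this
  have hd : orderOf x ∣ 4 := by rw [e, Torus.orderOf_conj']; exact orderOf_dvd_of_pow_eq_one h4
  obtain ⟨j, hj, hje⟩ := (Nat.dvd_prime_pow Nat.prime_two).1 (show orderOf x ∣ 2 ^ 2 by norm_num; exact hd)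
  interval_cases j <;> rw [hje] at ho
  · exact orderOf_eq_one_iff.1 hje
  · exact absurd ho (by decide)
  · exact absurd ho (by decide)

theorem card_sol_split (hm : 1 ≤ m) (hp : (2 * m + 1).Prime) {x : G} (hx1 : x ≠ 1)
    (hx : orderOf x ∣ Fintype.card F - 1) :
    Nat.card {y : G // SolP x y} = 2 * Fintype.card F ^ 2 * (Fintype.card F - 1) := by
  have ho := Odd.of_dvd_nat (odd_card_units hF) hx
  rcases classify hF hm hx1 with hf | ⟨a, b, h, -, e⟩ | ⟨k, h, hk, e⟩
  · exfalso
    obtain ⟨p, hp', hpx⟩ := Nat.exists_prime_and_dvd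
      (show orderOf x ≠ 1 by rw [Ne, orderOf_eq_one_iff]; exact hx1)
    have hmem : x ∈ Subgroup.centralizer {x} := Subgroup.mem_centralizer_singleton_iff.2 rfl
    have h1 : orderOf x ∣ Fintype.card F ^ 2 + 1 := by
      refine dvd_trans ?_ (card_torus_dvd hF hm hf)
      rw [← Subgroup.orderOf_mk x hmem]
      exact orderOf_dvd_natCard _
    exact coprime_q_facts hF hm hp' (hpx.trans h1) ((hpx.trans hx).mul_left _)
  · exact absurd (no_U hF hm e ho) hx1
  · rw [e, card_solP_conj]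
    exact card_sol_T hF hm hp hk

theorem card_sol_torus (hm : 1 ≤ m) (hp : (2 * m + 1).Prime) {g₁ g₂ : G} (H : Tori g₁ g₂) {x g₀ : G}
    (hg₀ : Fpf g₀)
    (hN₀ : Nat.card (Subgroup.normalizer (Subgroup.centralizer {g₀} : Set G))
      = Nat.card (Subgroup.centralizer ({g₀} : Set G)) * 4)
    (hx1 : x ≠ 1) (hx : orderOf x ∣ Nat.card (Subgroup.centralizer ({g₀} : Set G))) :
    Nat.card {y : G // SolP x y} = 4 * Nat.card (Subgroup.centralizer ({g₀} : Set G)) := by
  have hq := card_torus_dvd hF hm hg₀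
  have ho : Odd (orderOf x) := Odd.of_dvd_nat (torus_cent hF hm hg₀).odd hx
  obtain ⟨p, hp', hpx⟩ := Nat.exists_prime_and_dvd
    (show orderOf x ≠ 1 by rw [Ne, orderOf_eq_one_iff]; exact hx1)
  have hf : Fpf x := by
    rcases classify hF hm hx1 with hf | ⟨a, b, h, -, e⟩ | ⟨k, h, hk, e⟩
    · exact hf
    · exact absurd (no_U hF hm e ho) hx1
    · exfalso
      refine coprime_q_facts hF hm hp' (hpx.trans (hx.trans hq)) ?_
      refine Dvd.dvd.mul_left (hpx.trans ?_) _
      rw [e, Torus.orderOf_conj', ← card_range_T hF (m := m),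
        ← Subgroup.orderOf_mk (T hF k) (show T hF k ∈ (THom hF).range from ⟨k, rfl⟩)]
      exact orderOf_dvd_natCard _
  have hxC : x ∈ Subgroup.centralizer {x} := Subgroup.mem_centralizer_singleton_iff.2 rfl
  obtain ⟨h₀, e₀⟩ := torus_conj hF hm hg₀ hf hp' (hpx.trans hx) (hpx.trans (by
    rw [← Subgroup.orderOf_mk x hxC]; exact orderOf_dvd_natCard _))
  set C := Subgroup.centralizer ({x} : Set G) with hC
  set N := Subgroup.normalizer (C : Set G) with hN
  have hCcard : Nat.card C = Nat.card (Subgroup.centralizer ({g₀} : Set G)) := by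
    rw [e₀, Subgroup.card_map_of_injective (MulAut.conj h₀).injective]
  have hNcard : Nat.card N = 4 * Nat.card (Subgroup.centralizer ({g₀} : Set G)) := by
    rw [mul_comm, ← hN₀, hN, e₀]
    refine (Nat.card_congr (((MulAut.conj h₀).toEquiv).subtypeEquiv fun t => ?_)).symm
    rw [← Subgroup.map_equiv_normalizer_eq, Subgroup.mem_map_equiv]
    simp [mul_assoc]
  have key : ∀ y, SolP x y ↔ y ∈ N := by
    intro y
    refine ⟨fun hs => ?_, fun hy => solP_of_le hF hm hp (normalizer_cent_ne_top hF hm hf)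
      (Subgroup.le_normalizer hxC) hy⟩
    have hfin : ∀ g, Fpf g → Nat.card (Subgroup.normalizer (Subgroup.centralizer {g} : Set G))
        = Nat.card (Subgroup.centralizer ({g} : Set G)) * 4 → ∀ h,
        h⁻¹ * x * h ∈ Subgroup.normalizer (Subgroup.centralizer {g} : Set G) →
        h⁻¹ * y * h ∈ Subgroup.normalizer (Subgroup.centralizer {g} : Set G) → y ∈ N := by
      intro g hg hNg h hx' hy'
      have ho' := Torus.orderOf_conj' h⁻¹ x
      rw [inv_inv] at ho'
      have h1 := mem_of_odd_order dvd_rfl hNg hx' (ho' ▸ ho)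
      have hne : h⁻¹ * x * h ≠ 1 := fun e => hx1 (by
        rw [mul_assoc, inv_mul_eq_one, eq_comm, mul_eq_right] at e; exact e)
      have h2 := (torus_cent hF hm hg).cent _ h1 hne
      have h3 := (Subgroup.mem_normalizer_iff.1 hy' _).1 h1
      rw [← h2, Subgroup.mem_centralizer_singleton_iff] at h3
      refine (torus_cent hF hm hf).tsi hxC hx1 (Subgroup.mem_centralizer_singleton_iff.2 ?_)
      calc y * x * y⁻¹ * x
          = h * ((h⁻¹ * y * h) * (h⁻¹ * x * h) * (h⁻¹ * y * h)⁻¹ * (h⁻¹ * x * h)) * h⁻¹ := by group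
        _ = _ := by rw [h3]; group
    rcases H.solP_cases hF hm hs with ⟨p', hp'', hxp, -⟩ | ⟨h, hx', -⟩ | ⟨h, hx', hy'⟩ | ⟨h, hx', hy'⟩
    · exact absurd hxp (hf p' hp'')
    · exfalso
      have ho' := Torus.orderOf_conj' h⁻¹ x
      rw [inv_inv] at ho'
      obtain ⟨l, hl⟩ := mem_of_odd_order (w := 2) (by norm_num)
          (by rw [card_normalizer_T hF hm, card_range_T, mul_comm]) hx' (ho' ▸ ho)
      refine hf (h • ∞') (smul_mem_ovoid _ inf_mem_ovoid) ?_
      have hl' : T hF l = h⁻¹ * x * h := hl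
      rw [show x = h * T hF l * h⁻¹ by rw [hl']; group, mul_smul, mul_smul, inv_smul_smul, T_smul_inf]
    · exact hfin g₁ H.fpf₁ H.norm₁ h hx' hy'
    · exact hfin g₂ H.fpf₂ H.norm₂ h hx' hy'
  rw [Nat.card_congr (Equiv.subtypeEquivRight key)]
  exact hNcard

end Cfsg.Agent.LocalEven64.SzSub
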