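import Cfsg.Agent.Lib.Suzuki.Tori
import Cfsg.Agent.Lib.Suzuki.Sylow
import Cfsg.Agent.Lib.Involution.Dihedral

/-!
# Involutions of the Suzuki group acting on the ovoid
-/

set_option autoImplicit false

namespace Cfsg.Agent.LocalEven64.SzSub

open Cfsg.Agent.Suzuki

variable {F : Type*} [Field F] [Fintype F] {m : ℕ} (hF : Fintype.card F = 2 ^ (2 * m + 1))
include hF

local notation "∞'" => Cfsg.suzukiPointInfinity F

omit hF in
/-- `k ↦ k σ(k)`. -/
noncomputable def mu (m : ℕ) : Fˣ →* Fˣ where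
  toFun k := k * k ^ (2 ^ (m + 1))
  map_one' := by simp
  map_mul' a b := by rw [mul_pow]; exact mul_mul_mul_comm _ _ _ _

omit hF [Fintype F] in
theorem mu_val (k : Fˣ) : ((mu m k : Fˣ) : F) = k * sig m (k : F) := by
  simp [mu, sig]

theorem mu_injective : Function.Injective (mu (F := F) m) := by
  refine (injective_iff_map_eq_one _).2 fun k hk => Units.ext ?_
  refine eq_one_of_mul_sig hF k.ne_zero ?_
  rw [← mu_val, hk, Units.val_one]

theorem mu_surjective : Function.Surjective (mu (F := F) m) :=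
  Finite.surjective_of_injective (mu_injective hF)

theorem odd_card_units : Odd (Fintype.card F - 1) := by
  rw [hF]
  exact Nat.Even.sub_odd Nat.one_le_two_pow
    (Nat.even_pow.2 ⟨even_two, by omega⟩) odd_one

theorem units_eq_one_of_sq (k : Fˣ) (h : k * k = 1) : k = 1 := by
  refine Units.ext (sq_inj hF ?_)
  rw [Units.val_one, one_pow, sq, ← Units.val_mul, h, Units.val_one]

theorem U_zero_mul (b c : F) : U hF 0 b * U hF 0 c = U hF 0 (b + c) := by
  rw [U_mul, sig_zero, zero_mul, add_zero, add_zero]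

theorem U_zero_comm (a c b : F) : U hF a c * U hF 0 b = U hF 0 b * U hF a c := by
  rw [U_mul, U_mul, sig_zero, zero_mul, mul_zero, add_zero, zero_add, add_zero, add_zero,
    add_comm c b]

theorem stab_mul (a c a' c' : F) (k k' : Fˣ) :
    U hF a c * T hF k * (U hF a' c' * T hF k')
      = U hF (a + k * a') (c + k * sig m (k : F) * c' + sig m a * (k * a')) * T hF (k * k') := by
  have h : T hF k * U hF a' c' = U hF (k * a') (k * sig m (k : F) * c') * T hF k := by
    rw [← T_conj_U, inv_mul_cancel_right]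
  rw [mul_assoc, ← mul_assoc (T hF k), h, mul_assoc, ← T_mul, ← mul_assoc, U_mul]

theorem stab_conj_U (a c b : F) (k : Fˣ) :
    U hF a c * T hF k * U hF 0 b * (U hF a c * T hF k)⁻¹ = U hF 0 ((mu m k : Fˣ) * b) := by
  rw [show U hF a c * T hF k * U hF 0 b * (U hF a c * T hF k)⁻¹
      = U hF a c * (T hF k * U hF 0 b * (T hF k)⁻¹) * (U hF a c)⁻¹ by group, T_conj_U, mul_zero,
    U_zero_comm, mul_inv_cancel_right, mu_val]

theorem U_ne_one_iff {b : F} : U hF 0 b ≠ 1 ↔ b ≠ 0 := by
  refine not_congr ⟨fun h => (U_inj hF (h.trans (U_zero hF).symm)).2, fun h => ?_⟩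
  rw [h, U_zero]

theorem orderOf_U {b : F} (hb : b ≠ 0) : orderOf (U hF 0 b) = 2 := by
  haveI : Fact (Nat.Prime 2) := ⟨Nat.prime_two⟩
  refine orderOf_eq_prime ?_ ((U_ne_one_iff hF).2 hb)
  rw [sq, U_zero_mul, add_self hF, U_zero]

/-- An involution fixing `∞`. -/
theorem involution_at_inf (hm : 1 ≤ m) {i : Cfsg.Sz F m} (hi : orderOf i = 2)
    (hfix : i • ∞' = ∞') : ∃ b : F, b ≠ 0 ∧ i = U hF 0 b := by
  obtain ⟨a, c, k, rfl⟩ := eq_U_T_of_fix hF hm i hfix
  have h := pow_orderOf_eq_one (U hF a c * T hF k)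
  rw [hi, sq, stab_mul] at h
  obtain ⟨h1, -, h3⟩ := U_T_inj hF (h.trans
    (show (1 : Cfsg.Sz F m) = U hF 0 0 * T hF 1 by rw [U_zero, T_one, one_mul]))
  obtain rfl := units_eq_one_of_sq hF k h3
  rw [T_one, mul_one] at hi ⊢
  have h := pow_orderOf_eq_one (U hF a c)
  rw [hi, sq, U_mul, ← U_zero hF] at h
  have h2 := (U_inj hF h).2
  rw [add_self hF, zero_add] at h2
  have ha : a = 0 := by
    rcases mul_eq_zero.1 h2 with h4 | h4
    · exact sig_eq_zero.1 h4
    · exact h4
  subst ha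
  refine ⟨c, fun hc => ?_, rfl⟩
  rw [hc, U_zero, orderOf_one] at hi
  omega

theorem exists_fix (hm : 1 ≤ m) {i : Cfsg.Sz F m} (hi : orderOf i = 2) :
    ∃ p ∈ Cfsg.suzukiOvoid F m, i • p = p := by
  have h1 : i ≠ 1 := fun h => by rw [h, orderOf_one] at hi; omega
  by_cases hf : Fpf i
  · exfalso
    have h2 : 2 ∣ Fintype.card F ^ 2 + 1 := by
      refine dvd_trans ?_ (card_torus_dvd hF hm hf)
      rw [← hi, ← Subgroup.orderOf_mk i (Subgroup.mem_centralizer_singleton_iff.2 rfl)]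
      exact orderOf_dvd_natCard _
    obtain ⟨c, hc⟩ := (q_facts hF hm).2
    obtain ⟨d, hd⟩ := h2
    rw [hc] at hd
    have : (c + c) ^ 2 = 2 * (2 * c * c) := by ring
    omega
  · simpa [Fpf] using hf

/-- An involution fixes at most one ovoid point. -/
theorem fix_unique (hm : 1 ≤ m) {i : Cfsg.Sz F m} (hi : orderOf i = 2)
    {p r : Projectivization F (Fin 4 → F)} (hp : p ∈ Cfsg.suzukiOvoid F m)
    (hr : r ∈ Cfsg.suzukiOvoid F m) (hip : i • p = p) (hir : i • r = r) : p = r := by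
  obtain ⟨g, hg⟩ := exists_smul_inf hF p hp
  have ho : orderOf (g⁻¹ * i * g) = 2 := by
    have h := orderOf_injective (MulAut.conj g⁻¹).toMonoidHom (MulAut.conj g⁻¹).injective i
    simp only [MulEquiv.coe_toMonoidHom, MulAut.conj_apply, inv_inv] at h
    rw [h, hi]
  obtain ⟨b, hb, e⟩ := involution_at_inf hF hm ho
    (by rw [mul_smul, mul_smul, hg, hip, ← hg, inv_smul_smul])
  have h2 : U hF 0 b • (g⁻¹ • r) = g⁻¹ • r := by
    rw [← e, mul_smul, mul_smul, smul_inv_smul, hir]
  have h3 := (U_fix hF (smul_mem_ovoid g⁻¹ hr) h2).resolve_right ((U_ne_one_iff hF).2 hb)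
  rw [← hg, ← h3, smul_inv_smul]

/-- Involutions with different fixed points are interchanged by an involution of the subgroup
they generate. -/
theorem exists_swap (hm : 1 ≤ m) {M : Subgroup (Cfsg.Sz F m)} {a b : Cfsg.Sz F m}
    (ha : orderOf a = 2) (hb : orderOf b = 2) (haM : a ∈ M) (hbM : b ∈ M)
    {p r : Projectivization F (Fin 4 → F)} (hp : p ∈ Cfsg.suzukiOvoid F m)
    (hr : r ∈ Cfsg.suzukiOvoid F m) (hap : a • p = p) (hbr : b • r = r) (hpr : p ≠ r) :
    ∃ w ∈ M, orderOf w = 2 ∧ w • p = r ∧ w • r = p ∧ w * a * w⁻¹ = b := by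
  have haa := Involution.mul_self_of_orderOf ha
  have hbb := Involution.mul_self_of_orderOf hb
  have hai := Involution.inv_of_orderOf ha
  have hra : a * (a * b) * a⁻¹ = (a * b)⁻¹ := Involution.inverts_mul haa hbb
  have hrb : b * (a * b) * b⁻¹ = (a * b)⁻¹ := by
    rw [mul_inv_rev, hai, mul_assoc, mul_inv_cancel_right, Involution.inv_of_orderOf hb]
  have hodd : Odd (orderOf (a * b)) := by
    rw [← Nat.not_even_iff_odd]
    intro hev
    obtain ⟨j, hj⟩ := hev.two_dvd
    have hjpos : 0 < j := by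
      have := orderOf_pos (a * b)
      omega
    set c := (a * b) ^ j with hc
    have hc2 : orderOf c = 2 := by
      rw [hc, orderOf_pow' _ hjpos.ne', hj, Nat.gcd_eq_right (dvd_mul_left j 2),
        Nat.mul_div_cancel _ hjpos]
    have hcinv : c⁻¹ = c := Involution.inv_of_orderOf hc2
    have hca : a * c = c * a := by
      rw [← mul_inv_eq_iff_eq_mul, hc, ← conj_pow, hra, inv_pow, ← hc, hcinv]
    have hcb : b * c = c * b := by
      rw [← mul_inv_eq_iff_eq_mul, hc, ← conj_pow, hrb, inv_pow, ← hc, hcinv]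
    have hcp : c • p = p := fix_unique hF hm ha (smul_mem_ovoid c hp) hp
      (by rw [← mul_smul, hca, mul_smul, hap]) hap
    have hcr : c • r = r := fix_unique hF hm hb (smul_mem_ovoid c hr) hr
      (by rw [← mul_smul, hcb, mul_smul, hbr]) hbr
    exact hpr (fix_unique hF hm hc2 hp hr hcp hcr)
  obtain ⟨j, hj⟩ := Involution.exists_conj_of_odd haa hbb hodd
  set w := (a * b) ^ j * a with hw
  have hwM : w ∈ M := mul_mem (M.zpow_mem (mul_mem haM hbM) j) haM
  have hconj : w * a * w⁻¹ = b := by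
    rw [← hj, hw]
    group
  have hww : w * w = 1 := by
    rw [hw, mul_assoc, ← mul_assoc a, Involution.left_mul_zpow_mul haa hbb, ← zpow_add]
    simp
  have hwp : w • p = r := fix_unique hF hm hb (smul_mem_ovoid w hp) hr
    (by rw [← hconj, mul_smul, mul_smul, inv_smul_smul, hap]) hbr
  have hw1 : w ≠ 1 := fun h => hpr (by rw [← hwp, h, one_smul])
  exact ⟨w, hwM, Involution.orderOf_eq_two_iff'.2 ⟨hww, hw1⟩, hwp,
    by rw [← hwp, ← mul_smul, hww, one_smul], hconj⟩

end Cfsg.Agent.LocalEven64.SzSub
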