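import Cfsg.Agent.LocalEven64.SzSub.Normalised

/-!
# The subgroups of the Suzuki group
-/

set_option autoImplicit false

namespace Cfsg.Agent.LocalEven64.SzSub

open Cfsg.Agent.Suzuki

variable {F : Type*} [Field F] [Fintype F] {m : ℕ} (hF : Fintype.card F = 2 ^ (2 * m + 1))
include hF

local notation "∞'" => Cfsg.suzukiPointInfinity F

/-- The scalar of an element fixing `∞`. -/
noncomputable def chi (hm : 1 ≤ m) :
    MulAction.stabilizer (Cfsg.Sz F m) (∞') →* Fˣ :=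
  MonoidHom.mk' (fun g => (eq_U_T_of_fix hF hm g.1 g.2).choose_spec.choose_spec.choose) (by
    intro g h
    obtain ⟨a, ha⟩ : ∃ a, a = (eq_U_T_of_fix hF hm g.1 g.2).choose := ⟨_, rfl⟩
    have eg := (eq_U_T_of_fix hF hm g.1 g.2).choose_spec.choose_spec.choose_spec
    have eh := (eq_U_T_of_fix hF hm h.1 h.2).choose_spec.choose_spec.choose_spec
    have egh := (eq_U_T_of_fix hF hm (g * h).1 (g * h).2).choose_spec.choose_spec.choose_spec
    exact (U_T_inj hF (egh.symm.trans (((congrArg₂ (· * ·) eg eh)).trans (stab_mul hF _ _ _ _ _ _)))).2.2)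

theorem chi_spec (hm : 1 ≤ m) (g : MulAction.stabilizer (Cfsg.Sz F m) (∞')) :
    ∃ a c, (g : Cfsg.Sz F m) = U hF a c * T hF (chi hF hm g) :=
  ⟨_, _, (eq_U_T_of_fix hF hm g.1 g.2).choose_spec.choose_spec.choose_spec⟩

/-- The stabiliser of a point is solvable. -/
theorem isSolvable_stab (hm : 1 ≤ m) :
    Group.IsSolvable (MulAction.stabilizer (Cfsg.Sz F m) (∞')) := by
  haveI : Fact (Nat.Prime 2) := ⟨Nat.prime_two⟩
  let f : (chi hF hm).ker →* USub hF :=
    { toFun := fun g => ⟨((g : MulAction.stabilizer (Cfsg.Sz F m) (∞')) : Cfsg.Sz F m), by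
        obtain ⟨a, c, e⟩ := chi_spec hF hm g.1
        rw [show chi hF hm g.1 = 1 from g.2, T_one, mul_one] at e
        exact ⟨a, c, e⟩⟩
      map_one' := rfl
      map_mul' := fun x y => rfl }
  haveI : Group.IsNilpotent (USub hF) := (isPGroup_USub hF).isNilpotent
  haveI : Group.IsSolvable (USub hF) := inferInstance
  haveI : Group.IsSolvable (chi hF hm).ker := Group.isSolvable_of_isSolvable_injective (f := f)
    (fun x y h => Subtype.ext (Subtype.ext (congrArg (fun z : USub hF => (z : Cfsg.Sz F m)) h)))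
  exact Group.isSolvable_of_ker_le_range (chi hF hm).ker.subtype (chi hF hm) (by simp)

theorem sylow_odd_cyclic_sub (hm : 1 ≤ m) (M : Subgroup (Cfsg.Sz F m)) {p : ℕ} [Fact p.Prime]
    (hp2 : p ≠ 2) (P : Sylow p M) : IsCyclic P := by
  obtain ⟨Q, hQ⟩ := (P.2.map M.subtype).exists_le_sylow
  haveI : IsCyclic (Q : Subgroup (Cfsg.Sz F m)) := sylow_odd_isCyclic hF hm hp2 Q
  exact isCyclic_of_injective
    ((Subgroup.inclusion hQ).comp
      ((P : Subgroup M).equivMapOfInjective M.subtype M.subtype_injective).toMonoidHom)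
    ((Subgroup.inclusion_injective hQ).comp (MulEquiv.injective _))

theorem isSolvable_of_cyclic_two (hm : 1 ≤ m) (M : Subgroup (Cfsg.Sz F m))
    (h : ∀ P : Sylow 2 M, IsCyclic P) : Group.IsSolvable M := by
  haveI : IsZGroup M := ⟨fun p hp P => by
    haveI : Fact p.Prime := ⟨hp⟩
    by_cases hp2 : p = 2
    · subst hp2; exact h P
    · exact sylow_odd_cyclic_sub hF hm M hp2 P⟩
  infer_instance

/-- With only trivial scalars the Sylow 2-subgroups are cyclic of order at most four. -/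
theorem isSolvable_of_scal_trivial (hm : 1 ≤ m) {M : Subgroup (Cfsg.Sz F m)} (hB : Base hF M)
    (h : ∀ k ∈ scal hF hm M, k = 1) : Group.IsSolvable M := by
  classical
  haveI : Fact (Nat.Prime 2) := ⟨Nat.prime_two⟩
  obtain ⟨b₀, hb₀, hb₀M⟩ := hB.inv
  have huniq : ∀ b, b ≠ 0 → U hF 0 b ∈ M → b = b₀ := fun b hb hbM => by
    obtain ⟨k, hk, e⟩ := transit hm hB hb₀ hb hb₀M hbM
    rw [e, h k hk, map_one, Units.val_one, one_mul]
  let P1 : Subgroup M := (USub hF).subgroupOf M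
  have hP1 : IsPGroup 2 P1 := (isPGroup_USub hF).comap_subtype
  obtain ⟨Q, hQ⟩ := hP1.exists_le_sylow
  -- every element of `Q` fixes `∞`
  have hQU : (Q : Subgroup M) ≤ P1 := by
    have hi : (⟨U hF 0 b₀, hb₀M⟩ : M) ∈ (Q : Subgroup M) := hQ (Subgroup.mem_subgroupOf.2 ⟨0, b₀, rfl⟩)
    haveI : Nontrivial (Q : Subgroup M) := ⟨⟨⟨_, hi⟩, 1, fun e =>
      (U_ne_one_iff hF).2 hb₀ (congrArg (fun z : (Q : Subgroup M) => ((z : M) : Cfsg.Sz F m)) e)⟩⟩
    haveI := Q.2.center_nontrivial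
    haveI : Fact (Nat.Prime 2) := ⟨Nat.prime_two⟩
    obtain ⟨e, he⟩ := (Q.2.to_subgroup (Subgroup.center (Q : Subgroup M))).exists_card_eq
    obtain ⟨⟨z, hzc⟩, hz⟩ := exists_prime_orderOf_dvd_card' (G := Subgroup.center (Q : Subgroup M)) 2
      (by
        rw [he]
        refine dvd_pow_self 2 fun h0 => ?_
        rw [h0, pow_zero] at he
        exact (Finite.one_lt_card (α := Subgroup.center (Q : Subgroup M))).ne' he)
    rw [← Subgroup.orderOf_coe] at hz
    change orderOf z = 2 at hz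
    rw [← Subgroup.orderOf_coe, ← Subgroup.orderOf_coe] at hz
    set c : Cfsg.Sz F m := ((z : M) : Cfsg.Sz F m) with hcdef
    have hcomm : ∀ y : (Q : Subgroup M), ((y : M) : Cfsg.Sz F m) * c = c * ((y : M) : Cfsg.Sz F m) :=
      fun y => congrArg (fun z : (Q : Subgroup M) => ((z : M) : Cfsg.Sz F m))
        (Subgroup.mem_center_iff.1 hzc y)
    have hc : c • ∞' = ∞' := fix_unique hF hm (orderOf_U hF hb₀) (smul_mem_ovoid c inf_mem_ovoid)
      inf_mem_ovoid (by rw [← mul_smul, hcomm ⟨_, hi⟩, mul_smul, U_smul_inf]) (U_smul_inf hF 0 b₀)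
    intro y hy
    have hy' : ((y : M) : Cfsg.Sz F m) • ∞' = ∞' := fix_unique hF hm hz
      (smul_mem_ovoid _ inf_mem_ovoid) inf_mem_ovoid
      (by rw [← mul_smul, ← hcomm ⟨y, hy⟩, mul_smul, hc]) hc
    obtain ⟨a, d, k, e'⟩ := eq_U_T_of_fix hF hm _ hy'
    have hk : k = 1 := h k ⟨a, d, by rw [← e']; exact y.2⟩
    rw [hk, T_one, mul_one] at e'
    exact Subgroup.mem_subgroupOf.2 ⟨a, d, e'⟩
  have hQeq : (Q : Subgroup M) = P1 := le_antisymm hQU hQ
  refine isSolvable_of_cyclic_two hF hm M fun P => ?_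
  suffices hc : IsCyclic (Q : Subgroup M) from
    isCyclic_of_surjective (Sylow.equiv Q P) (Sylow.equiv Q P).surjective
  rw [hQeq]
  -- coordinates
  have hcoord : ∀ x : P1, ∃ a c, ((x : M) : Cfsg.Sz F m) = U hF a c := fun x =>
    Subgroup.mem_subgroupOf.1 x.2
  by_cases hA : ∃ x : P1, ∃ a c, ((x : M) : Cfsg.Sz F m) = U hF a c ∧ a ≠ 0
  · obtain ⟨x, a, c, e, ha⟩ := hA
    have hsq : U hF 0 (sig m a * a) ∈ M := by
      have h2 := mul_mem (e ▸ (x : M).2 : U hF a c ∈ M) (e ▸ (x : M).2 : U hF a c ∈ M)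
      rwa [U_mul, add_self hF, add_self hF, zero_add] at h2
    have hne : sig m a * a ≠ 0 := mul_ne_zero (sig_ne_zero ha) ha
    -- every element is a power of `x`
    refine ⟨⟨x, fun y => Subgroup.mem_zpowers_iff.1 ?_⟩⟩
    obtain ⟨a', c', e'⟩ := hcoord y
    have key : ∀ z : P1, (∃ c'', ((z : M) : Cfsg.Sz F m) = U hF 0 c'') →
        z = 1 ∨ z = x * x := by
      rintro z ⟨c'', ez⟩
      by_cases hc : c'' = 0
      · left
        refine Subtype.ext (Subtype.ext ?_)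
        rw [ez, hc, U_zero]; rfl
      · right
        refine Subtype.ext (Subtype.ext ?_)
        have h2 := huniq c'' hc (ez ▸ (z : M).2)
        rw [h2, ← huniq _ hne hsq] at ez
        rw [ez]
        change _ = ((x : M) : Cfsg.Sz F m) * ((x : M) : Cfsg.Sz F m)
        rw [e, U_mul, add_self hF, add_self hF, zero_add]
    have ha' : a' = 0 ∨ a' = a := by
      refine or_iff_not_imp_left.2 fun h0 => ?_
      have hsq' : U hF 0 (sig m a' * a') ∈ M := by
        have h2 := mul_mem (e' ▸ (y : M).2 : U hF a' c' ∈ M) (e' ▸ (y : M).2 : U hF a' c' ∈ M)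
        rwa [U_mul, add_self hF, add_self hF, zero_add] at h2
      have h1 := huniq _ (mul_ne_zero (sig_ne_zero h0) h0) hsq'
      rw [← huniq _ hne hsq] at h1
      have h3 : mu m (Units.mk0 a' h0) = mu m (Units.mk0 a ha) := Units.ext (by
        rw [mu_val, mu_val, Units.val_mk0, Units.val_mk0, mul_comm, h1, mul_comm])
      exact congrArg Units.val (mu_injective hF h3)
    have hx : x ∈ Subgroup.zpowers x := Subgroup.mem_zpowers x
    rcases ha' with ha' | ha'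
    · rcases key y ⟨c', by rw [e', ha']⟩ with r | r <;> rw [r]
      · exact one_mem _
      · exact mul_mem hx hx
    · have hz : ∃ c'', ((x * y : P1) : M).1 = U hF 0 c'' := ⟨c + c' + sig m a * a', by
        change ((x : M) : Cfsg.Sz F m) * ((y : M) : Cfsg.Sz F m) = _
        rw [e, e', U_mul, ha', add_self hF]⟩
      rcases key _ hz with r | r
      · rw [eq_inv_of_mul_eq_one_right r]; exact inv_mem hx
      · rw [mul_left_cancel r]; exact hx
  · push Not at hA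
    haveI : Fintype P1 := Fintype.ofFinite _
    refine ⟨⟨⟨⟨U hF 0 b₀, hb₀M⟩, Subgroup.mem_subgroupOf.2 ⟨0, b₀, rfl⟩⟩,
      fun y => Subgroup.mem_zpowers_iff.1 ?_⟩⟩
    obtain ⟨a', c', e'⟩ := hcoord y
    rw [hA y a' c' e'] at e'
    by_cases hc : c' = 0
    · rw [show y = 1 from Subtype.ext (Subtype.ext (by rw [e', hc, U_zero]; rfl))]
      exact one_mem _
    · have h2 := huniq c' hc (e' ▸ (y : M).2)
      rw [h2] at e'
      rw [show y = ⟨⟨U hF 0 b₀, hb₀M⟩, Subgroup.mem_subgroupOf.2 ⟨0, b₀, rfl⟩⟩ from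
        Subtype.ext (Subtype.ext e')]
      exact Subgroup.mem_zpowers _

omit hF [Fintype F] in
theorem map_conj_map (M : Subgroup (Cfsg.Sz F m)) (g h : Cfsg.Sz F m) :
    (M.map (MulAut.conj h).toMonoidHom).map (MulAut.conj g).toMonoidHom
      = M.map (MulAut.conj (g * h)).toMonoidHom := by
  rw [Subgroup.map_map]
  congr 1
  ext x
  simp [mul_assoc]

omit hF [Fintype F] in
theorem mem_map_conj {M : Subgroup (Cfsg.Sz F m)} {g x : Cfsg.Sz F m} :
    x ∈ M.map (MulAut.conj g).toMonoidHom ↔ g⁻¹ * x * g ∈ M := by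
  rw [Subgroup.mem_map]
  constructor
  · rintro ⟨y, hy, rfl⟩
    simpa [mul_assoc] using hy
  · exact fun h => ⟨_, h, by simp [mul_assoc]⟩

omit hF [Fintype F] in
theorem isSolvable_map_conj {M : Subgroup (Cfsg.Sz F m)} {g : Cfsg.Sz F m}
    (h : Group.IsSolvable (M.map (MulAut.conj g).toMonoidHom)) : Group.IsSolvable M := by
  haveI := h
  exact Group.isSolvable_of_isSolvable_injective
    (f := (M.equivMapOfInjective (MulAut.conj g).toMonoidHom (MulAut.conj g).injective).toMonoidHom)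
    (MulEquiv.injective _)

/-- A nonsolvable subgroup is conjugate to a subfield subgroup. -/
theorem nonsolvable_conj (hm : 1 ≤ m) (M : Subgroup (Cfsg.Sz F m))
    (hns : ¬ Group.IsSolvable M) :
    ∃ (j : ℕ) (g : Cfsg.Sz F m), 1 ≤ j ∧ 2 * j + 1 ∣ 2 * m + 1 ∧
      Nat.card M = (2 ^ (2 * j + 1)) ^ 2 * ((2 ^ (2 * j + 1)) ^ 2 + 1) * (2 ^ (2 * j + 1) - 1) ∧
      W hF ∈ M.map (MulAut.conj g).toMonoidHom ∧
      (∀ a b : F, a ^ 2 ^ (2 * j + 1) = a → b ^ 2 ^ (2 * j + 1) = b →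
        U hF a b ∈ M.map (MulAut.conj g).toMonoidHom) ∧
      (∀ k : Fˣ, (k : F) ^ 2 ^ (2 * j + 1) = k → T hF k ∈ M.map (MulAut.conj g).toMonoidHom) := by
  classical
  haveI : Fact (Nat.Prime 2) := ⟨Nat.prime_two⟩
  -- an involution
  obtain ⟨i, hi, hio⟩ : ∃ i ∈ M, orderOf i = 2 := by
    by_cases h2 : 2 ∣ Nat.card M
    · obtain ⟨x, hx⟩ := exists_prime_orderOf_dvd_card' (G := M) 2 h2
      exact ⟨x, x.2, by rw [Subgroup.orderOf_coe, hx]⟩
    · refine absurd (isSolvable_of_cyclic_two hF hm M fun P => ?_) hns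
      obtain ⟨e, he⟩ := P.2.exists_card_eq
      haveI : Subsingleton P := (Nat.card_eq_one_iff_unique.1 (by
        rcases Nat.eq_zero_or_pos e with h0 | h0
        · rw [he, h0, pow_zero]
        · exact absurd ((dvd_pow_self 2 h0.ne').trans
            (he ▸ (P : Subgroup M).card_subgroup_dvd_card)) h2)).1
      infer_instance
  obtain ⟨p, hp, hip⟩ := exists_fix hF hm hio
  obtain ⟨g₁, hg₁⟩ := exists_smul_inf hF p hp
  set M₁ := M.map (MulAut.conj g₁⁻¹).toMonoidHom with hM₁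
  have hi₁ : g₁⁻¹ * i * g₁ ∈ M₁ := mem_map_conj.2 (by simpa [mul_assoc] using hi)
  have ho₁ : orderOf (g₁⁻¹ * i * g₁) = 2 := by
    have h := orderOf_injective (MulAut.conj g₁⁻¹).toMonoidHom (MulAut.conj g₁⁻¹).injective i
    simp only [MulEquiv.coe_toMonoidHom, MulAut.conj_apply, inv_inv] at h
    rw [h, hio]
  obtain ⟨b₁, hb₁, e₁⟩ := involution_at_inf hF hm ho₁
    (by rw [mul_smul, mul_smul, hg₁, hip, ← hg₁, inv_smul_smul])
  have hns₁ : ¬ Group.IsSolvable M₁ := fun h => hns (isSolvable_map_conj h)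
  have hmove : ∃ h ∈ M₁, h • ∞' ≠ ∞' := by
    by_contra hcon
    push Not at hcon
    haveI := isSolvable_stab hF hm
    exact hns₁ (Group.isSolvable_of_isSolvable_injective (f := Subgroup.inclusion
      (K := MulAction.stabilizer (Cfsg.Sz F m) (∞')) fun x hx => hcon x hx)
      (Subgroup.inclusion_injective _))
  have hB₁ : Base hF M₁ := ⟨⟨b₁, hb₁, e₁ ▸ hi₁⟩, hmove⟩
  obtain ⟨k₁, hk₁, hk₁1⟩ : ∃ k ∈ scal hF hm M₁, k ≠ 1 := by
    by_contra hcon
    push Not at hcon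
    exact hns₁ (isSolvable_of_scal_trivial hF hm hB₁ hcon)
  -- a generator of the scalars
  obtain ⟨⟨k₀, hk₀⟩, hgen⟩ := IsCyclic.exists_generator (α := scal hF hm M₁)
  have hk₀1 : k₀ ≠ 1 := by
    intro h
    obtain ⟨e, he⟩ := Subgroup.mem_zpowers_iff.1 (hgen ⟨k₁, hk₁⟩)
    have h' := congrArg Subtype.val he
    simp [h] at h'
    exact hk₁1 h'.symm
  obtain ⟨a₀, c₀, hg₀⟩ := hk₀
  obtain ⟨x, y, hxy⟩ := U_T_fix hF a₀ c₀ k₀ hk₀1
  -- normalise by a root element and a torus element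
  obtain ⟨l, hl⟩ := mu_surjective hF (Units.mk0 b₁ hb₁)⁻¹
  set g₂ := T hF l * (U hF x y)⁻¹ with hg₂
  refine ?_
  set M₂ := M₁.map (MulAut.conj g₂).toMonoidHom with hM₂
  have hg₂fix : g₂ • ∞' = ∞' := by
    rw [hg₂, mul_smul, inv_smul_eq_iff.2 (U_smul_inf hF x y).symm, T_smul_inf]
  have hone : U hF 0 1 ∈ M₂ := by
    refine mem_map_conj.2 ?_
    rw [hg₂]
    have h : (T hF l * (U hF x y)⁻¹)⁻¹ * U hF 0 1 * (T hF l * (U hF x y)⁻¹)
        = U hF x y * (T hF l⁻¹ * U hF 0 1 * (T hF l⁻¹)⁻¹) * (U hF x y)⁻¹ := by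
      rw [T_inv]; group
    rw [h, T_conj_U, mul_zero, U_zero_comm, mul_inv_cancel_right, ← mu_val, map_inv, hl, inv_inv,
      Units.val_mk0, mul_one, ← e₁]
    exact hi₁
  have hB₂ : Base hF M₂ := by
    refine ⟨⟨1, one_ne_zero, hone⟩, ?_⟩
    obtain ⟨h, hh, hne⟩ := hmove
    refine ⟨g₂ * h * g₂⁻¹, mem_map_conj.2 (by simpa [mul_assoc] using hh), ?_⟩
    rw [mul_smul, mul_smul, inv_smul_eq_iff.2 hg₂fix.symm]
    exact fun e => hne (by rw [← smul_left_cancel_iff g₂, e, hg₂fix])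
  have hsub : ∀ k ∈ scal hF hm M₂, k ∈ scal hF hm M₁ := by
    rintro k ⟨a, c, h⟩
    have h1 : g₂⁻¹ * (U hF a c * T hF k) * g₂ ∈ M₁ := mem_map_conj.1 h
    rw [hg₂] at h1
    have e : (T hF l * (U hF x y)⁻¹)⁻¹ * (U hF a c * T hF k) * (T hF l * (U hF x y)⁻¹)
        = U hF x y * T hF l⁻¹ * (U hF a c * T hF k) * (U hF 0 0 * T hF l)
          * (U hF x (y + sig m x * x) * T hF 1) := by
      rw [← U_inv, T_one, mul_one, U_zero, one_mul, T_inv]; group
    rw [e, stab_mul, stab_mul, stab_mul] at h1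
    rw [show l⁻¹ * k * l * 1 = k by rw [mul_one, mul_right_comm, inv_mul_cancel, one_mul]] at h1
    exact ⟨_, _, h1⟩
  have hT₀ : T hF k₀ ∈ M₂ := by
    refine mem_map_conj.2 ?_
    have hfix : ((U hF x y)⁻¹ * (U hF a₀ c₀ * T hF k₀) * U hF x y) • pt m (0 : F) 0
        = pt m 0 0 := by
      rw [mul_smul, mul_smul, U_smul_zero, hxy, ← U_smul_zero hF x y, inv_smul_smul]
    have hfix' : ((U hF x y)⁻¹ * (U hF a₀ c₀ * T hF k₀) * U hF x y) • ∞' = ∞' := by
      simp only [mul_smul, U_smul_inf, T_smul_inf, inv_smul_eq_iff]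
    obtain ⟨k, hk⟩ := eq_T_of_fix hF hm _ hfix' hfix
    have hkk : k = k₀ := by
      have h : U hF x y * T hF k = U hF a₀ c₀ * T hF k₀ * (U hF x y * T hF 1) := by
        rw [← hk, T_one]; group
      rw [stab_mul] at h
      exact ((U_T_inj hF h).2.2).trans (mul_one _)
    rw [hg₂]
    have : (T hF l * (U hF x y)⁻¹)⁻¹ * T hF k₀ * (T hF l * (U hF x y)⁻¹)
        = U hF x y * ((T hF l)⁻¹ * T hF k₀ * T hF l) * (U hF x y)⁻¹ := by group
    rw [this, show (T hF l)⁻¹ * T hF k₀ * T hF l = T hF k₀ by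
      rw [← T_inv, ← T_mul, ← T_mul, mul_right_comm, inv_mul_cancel, one_mul]]
    rw [← hkk, ← hk]
    convert hg₀ using 1
    group
  have hT : ∀ k ∈ scal hF hm M₂, T hF k ∈ M₂ := by
    intro k hk
    obtain ⟨e, he⟩ := Subgroup.mem_zpowers_iff.1 (hgen ⟨k, hsub k hk⟩)
    have hk' : k = k₀ ^ e := by
      have h' := congrArg Subtype.val he
      simp at h'
      exact h'.symm
    rw [hk', show T hF (k₀ ^ e) = T hF k₀ ^ e from map_zpow (THom hF) k₀ e]
    exact M₂.zpow_mem hT₀ e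
  have hnt : ∃ k ∈ scal hF hm M₂, k ≠ 1 :=
    ⟨k₀, ⟨0, 0, by rw [U_zero, one_mul]; exact hT₀⟩, hk₀1⟩
  obtain ⟨j, hj1, hjd, hcard, hW, hU, hTT⟩ := normalised hF hm hB₂ hone hT hnt
  have hmap : M₂ = M.map (MulAut.conj (g₂ * g₁⁻¹)).toMonoidHom := map_conj_map M g₂ g₁⁻¹
  refine ⟨j, g₂ * g₁⁻¹, hj1, hjd, ?_, hmap ▸ hW, hmap ▸ hU, hmap ▸ hTT⟩
  rw [← hcard, hmap]
  exact (Subgroup.card_map_of_injective (MulAut.conj _).injective).symm

/-- A solvable subgroup fixes a point or normalises a torus. -/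
theorem solvable_cases (hm : 1 ≤ m) (M : Subgroup (Cfsg.Sz F m)) [Group.IsSolvable M] :
    (∃ g : Cfsg.Sz F m, ∀ x ∈ M, x • (g • ∞') = g • ∞') ∨
      (∃ g : Cfsg.Sz F m, ∀ x ∈ M,
        g⁻¹ * x * g ∈ Subgroup.normalizer ((THom hF).range : Set (Cfsg.Sz F m))) ∨
      ∃ g : Cfsg.Sz F m, Fpf g ∧
        M ≤ Subgroup.normalizer (Subgroup.centralizer {g} : Set (Cfsg.Sz F m)) := by
  classical
  rcases eq_or_ne M ⊥ with rfl | hM
  · exact Or.inl ⟨1, fun x hx => by rw [Subgroup.mem_bot.1 hx, one_smul]⟩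
  haveI : Nontrivial M := (Subgroup.nontrivial_iff_ne_bot M).2 hM
  obtain ⟨n, hn⟩ := (Group.isSolvable_def M).1 inferInstance
  obtain ⟨A, hA, hAne, hAc⟩ : ∃ A : Subgroup M, A.Normal ∧ A ≠ ⊥ ∧ ⁅A, A⁆ = ⊥ := by
    have hex : ∃ n, derivedSeries M n = ⊥ := ⟨n, hn⟩
    obtain ⟨j, hj⟩ : ∃ j, Nat.find hex = j + 1 := by
      rcases Nat.eq_zero_or_pos (Nat.find hex) with h0 | h0
      · exfalso
        have := Nat.find_spec hex
        rw [h0, derivedSeries_zero] at this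
        exact top_ne_bot this
      · exact ⟨Nat.find hex - 1, by omega⟩
    refine ⟨derivedSeries M j, derivedSeries_normal M j, Nat.find_min hex (by omega), ?_⟩
    rw [← derivedSeries_succ, ← hj]
    exact Nat.find_spec hex
  obtain ⟨x, hxA, hx1⟩ := (Subgroup.bot_or_exists_ne_one A).resolve_left hAne
  have hx1' : (x : Cfsg.Sz F m) ≠ 1 := fun h => hx1 (Subtype.ext h)
  have hcent : ∀ y ∈ A, (y : Cfsg.Sz F m) ∈ Subgroup.centralizer {(x : Cfsg.Sz F m)} := by
    intro y hy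
    rw [Subgroup.mem_centralizer_singleton_iff]
    have := (Subgroup.commutator_eq_bot_iff_le_centralizer.1 hAc hy x hxA)
    exact congrArg Subtype.val this.symm
  have hconj : ∀ z : Cfsg.Sz F m, z ∈ M →
      z * (x : Cfsg.Sz F m) * z⁻¹ ∈ Subgroup.centralizer {(x : Cfsg.Sz F m)} := fun z hz =>
    hcent _ (hA.conj_mem x hxA ⟨z, hz⟩)
  rcases classify hF hm hx1' with hf | ⟨a, b, h, hU1, e⟩ | ⟨k, h, hk1, e⟩
  · right; right
    exact ⟨x, hf, fun z hz => torus_TI hF hm hf z x (Subgroup.mem_centralizer_singleton_iff.2 rfl)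
      hx1' (hconj z hz)⟩
  · left
    refine ⟨h, fun z hz => ?_⟩
    have h2 := hconj z hz
    rw [e, centralizer_conj, mem_map_conj] at h2
    obtain ⟨c, d, hcd⟩ := centralizer_U_le hF hm hU1 h2
    have hne : U hF c d ≠ 1 := by
      rw [← hcd]
      intro h'
      apply hU1
      have h3 : (h⁻¹ * z * h) * U hF a b * (h⁻¹ * z * h)⁻¹ = 1 := by
        rw [← h']; group
      exact conj_eq_one_iff.1 h3
    have h4 : U hF c d • (h⁻¹ • z • h • ∞') = h⁻¹ • z • h • ∞' := by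
      rw [← hcd]
      simp only [mul_smul, smul_inv_smul, inv_smul_smul, U_smul_inf]
    have h5 := (U_fix hF (smul_mem_ovoid _ (smul_mem_ovoid _ (smul_mem_ovoid _ inf_mem_ovoid)))
      h4).resolve_right hne
    rwa [inv_smul_eq_iff] at h5
  · right; left
    refine ⟨h, fun z hz => ?_⟩
    have h2 := hconj z hz
    rw [e, centralizer_conj, mem_map_conj] at h2
    refine TI_T hF hm _ (T hF k) ⟨k, rfl⟩ (fun h' => hk1 (T_inj hF (h'.trans (T_one hF).symm))) ?_
    have h3 := centralizer_T_le hF hm hk1 h2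
    convert h3 using 1
    group

end Cfsg.Agent.LocalEven64.SzSub
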