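import Cfsg.Agent.LocalEven64.SzSub.Basic

/-!
# Subgroups of the Suzuki group with two Sylow 2-subgroups: the local data
-/

set_option autoImplicit false

namespace Cfsg.Agent.LocalEven64.SzSub

open Cfsg.Agent.Suzuki

variable {F : Type*} [Field F] [Fintype F] {m : ℕ} (hF : Fintype.card F = 2 ^ (2 * m + 1))
include hF

local notation "∞'" => Cfsg.suzukiPointInfinity F

theorem eq_inv_of_stab {a c a' c' : F} {k k' : Fˣ}
    (h : U hF a c * T hF k * (U hF a' c' * T hF k') = 1) : k * k' = 1 := by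
  rw [stab_mul] at h
  exact (U_T_inj hF (h.trans
    (show (1 : Cfsg.Sz F m) = U hF 0 0 * T hF 1 by rw [U_zero, T_one, one_mul]))).2.2

/-- The scalars of the elements of `M` fixing `∞`. -/
def scal (hm : 1 ≤ m) (M : Subgroup (Cfsg.Sz F m)) : Subgroup Fˣ where
  carrier := {k | ∃ a c, U hF a c * T hF k ∈ M}
  one_mem' := ⟨0, 0, by rw [U_zero, T_one, one_mul]; exact one_mem M⟩
  mul_mem' := by
    rintro k k' ⟨a, c, h⟩ ⟨a', c', h'⟩
    refine ⟨a + k * a', c + k * sig m (k : F) * c' + sig m a * (k * a'), ?_⟩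
    rw [← stab_mul]
    exact mul_mem h h'
  inv_mem' := by
    rintro k ⟨a, c, h⟩
    have hfix : (U hF a c * T hF k)⁻¹ • ∞' = ∞' := by
      rw [inv_smul_eq_iff, mul_smul, T_smul_inf, U_smul_inf]
    obtain ⟨a', c', k', e⟩ := eq_U_T_of_fix hF hm _ hfix
    have hk : k * k' = 1 := eq_inv_of_stab hF (a := a) (c := c) (a' := a') (c' := c')
      (by rw [← e, mul_inv_cancel])
    exact ⟨a', c', by rw [show k⁻¹ = k' from inv_eq_of_mul_eq_one_right hk, ← e]; exact inv_mem h⟩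

/-- The hypotheses: an involution of `M` fixes `∞` and `M` moves `∞`. -/
structure Base (M : Subgroup (Cfsg.Sz F m)) : Prop where
  inv : ∃ b : F, b ≠ 0 ∧ U hF 0 b ∈ M
  move : ∃ h ∈ M, h • ∞' ≠ ∞'

variable {hF} (hm : 1 ≤ m) {M : Subgroup (Cfsg.Sz F m)} (hM : Base hF M)
include hm hM

theorem transit {b b' : F} (hb : b ≠ 0) (hb' : b' ≠ 0) (hbM : U hF 0 b ∈ M)
    (hbM' : U hF 0 b' ∈ M) : ∃ k ∈ scal hF hm M, b' = (mu m k : Fˣ) * b := by
  obtain ⟨h, hh, hne⟩ := hM.move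
  set i := h * U hF 0 b * h⁻¹ with hi
  have hio : orderOf i = 2 := by
    have e := orderOf_injective (MulAut.conj h).toMonoidHom (MulAut.conj h).injective (U hF 0 b)
    simp only [MulEquiv.coe_toMonoidHom, MulAut.conj_apply] at e
    rw [hi, e, orderOf_U hF hb]
  have hiM : i ∈ M := mul_mem (mul_mem hh hbM) (inv_mem hh)
  have hifix : i • (h • ∞') = h • ∞' := by
    rw [hi, mul_smul, mul_smul, inv_smul_smul, U_smul_inf]
  have hp : h • ∞' ∈ Cfsg.suzukiOvoid F m := smul_mem_ovoid h inf_mem_ovoid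
  obtain ⟨w, hw, -, hw1, hw2, hwc⟩ := exists_swap hF hm (orderOf_U hF hb) hio hbM hiM
    inf_mem_ovoid hp (U_smul_inf hF 0 b) hifix (Ne.symm hne)
  obtain ⟨v, hv, hvo, hv1, hv2, hvc⟩ := exists_swap hF hm (orderOf_U hF hb') hio hbM' hiM
    inf_mem_ovoid hp (U_smul_inf hF 0 b') hifix (Ne.symm hne)
  have hfix : (v⁻¹ * w) • ∞' = ∞' := by rw [mul_smul, hw1, ← hv1, inv_smul_smul]
  obtain ⟨a, c, k, e⟩ := eq_U_T_of_fix hF hm _ hfix
  refine ⟨k, ⟨a, c, by rw [← e]; exact mul_mem (inv_mem hv) hw⟩, ?_⟩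
  have h1 : (v⁻¹ * w) * U hF 0 b * (v⁻¹ * w)⁻¹ = U hF 0 b' := by
    calc (v⁻¹ * w) * U hF 0 b * (v⁻¹ * w)⁻¹ = v⁻¹ * (w * U hF 0 b * w⁻¹) * v := by group
      _ = v⁻¹ * (v * U hF 0 b' * v⁻¹) * v := by rw [hwc, hvc]
      _ = U hF 0 b' := by group
  rw [e, stab_conj_U] at h1
  exact (U_inj hF h1).2.symm

theorem mu_mul_mem {b : F} {k : Fˣ} (hbM : U hF 0 b ∈ M) (hk : k ∈ scal hF hm M) :
    U hF 0 ((mu m k : Fˣ) * b) ∈ M := by
  obtain ⟨a, c, h⟩ := hk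
  rw [← stab_conj_U hF a c]
  exact mul_mem (mul_mem h hbM) (inv_mem h)

theorem card_inf :
    Nat.card {b : F // b ≠ 0 ∧ U hF 0 b ∈ M} = Nat.card (scal hF hm M) := by
  obtain ⟨b, hb, hbM⟩ := hM.inv
  refine (Nat.card_eq_of_bijective
    (fun k : scal hF hm M => (⟨(mu m (k : Fˣ) : Fˣ) * b, mul_ne_zero (Units.ne_zero _) hb,
      mu_mul_mem hm hM hbM k.2⟩ : {b : F // b ≠ 0 ∧ U hF 0 b ∈ M})) ⟨?_, ?_⟩).symm
  · intro k k' h
    exact Subtype.ext (mu_injective hF (Units.ext (mul_right_cancel₀ hb (congrArg Subtype.val h))))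
  · rintro ⟨b', hb', hbM'⟩
    obtain ⟨k, hk, e⟩ := transit hm hM hb hb' hbM hbM'
    exact ⟨⟨k, hk⟩, Subtype.ext e.symm⟩

/-- An element fixing `∞` and another point is determined by its scalar. -/
theorem card_two_point_le {p : Projectivization F (Fin 4 → F)} (hp : p ∈ Cfsg.suzukiOvoid F m)
    (hne : p ≠ ∞') :
    ∃ f : {g : Cfsg.Sz F m // g ∈ M ∧ g • ∞' = ∞' ∧ g • p = p} → scal hF hm M,
      Function.Injective f ∧ ∀ g : {g : Cfsg.Sz F m // g ∈ M ∧ g • ∞' = ∞' ∧ g • p = p},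
        ∃ a c, (g : Cfsg.Sz F m) = U hF a c * T hF (f g : Fˣ) := by
  choose a c k e using fun g : {g : Cfsg.Sz F m // g ∈ M ∧ g • ∞' = ∞' ∧ g • p = p} =>
    eq_U_T_of_fix hF hm (g : Cfsg.Sz F m) g.2.2.1
  refine ⟨fun g => ⟨k g, a g, c g, by rw [← e g]; exact g.2.1⟩, ?_, fun g => ⟨a g, c g, e g⟩⟩
  intro g g' h
  have hk : k g = k g' := congrArg Subtype.val h
  set u := (g : Cfsg.Sz F m) * (g' : Cfsg.Sz F m)⁻¹ with hu
  have hu1 : u = U hF (a g) (c g) * (U hF (a g') (c g'))⁻¹ := by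
    rw [hu, e g, e g', hk]
    group
  rw [U_inv, U_mul] at hu1
  have hfix : u • p = p := by rw [hu, mul_smul, inv_smul_eq_iff.2 g'.2.2.2.symm, g.2.2.2]
  rw [hu1] at hfix
  have h1 := (U_fix hF hp hfix).resolve_left hne
  rw [h1, hu, mul_inv_eq_one] at hu1
  exact Subtype.ext hu1

/-- Each point of the orbit of `∞` is fixed, together with `∞`, by an element of every scalar. -/
theorem two_point_scal {h : Cfsg.Sz F m} (hh : h ∈ M) (hne : h • ∞' ≠ ∞') {k : Fˣ}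
    (hk : k ∈ scal hF hm M) :
    ∃ a c, U hF a c * T hF k ∈ M ∧ (U hF a c * T hF k) • (h • ∞') = h • ∞' := by
  classical
  set p := h • ∞' with hpdef
  have hp : p ∈ Cfsg.suzukiOvoid F m := smul_mem_ovoid h inf_mem_ovoid
  obtain ⟨b₀, hb₀, hb₀M⟩ := hM.inv
  obtain ⟨f, hf, hfe⟩ := card_two_point_le hm hM hp hne
  -- the involutions of `M` fixing `p`
  let I := {i : Cfsg.Sz F m // orderOf i = 2 ∧ i ∈ M ∧ i • p = p}
  let J := {w : Cfsg.Sz F m // orderOf w = 2 ∧ w ∈ M ∧ w • ∞' = p ∧ w • p = ∞'}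
  have hsw : ∀ i : I, ∃ w : J, (w : Cfsg.Sz F m) * U hF 0 b₀ * (w : Cfsg.Sz F m)⁻¹ = i := fun i => by
    obtain ⟨w, hw, hwo, h1, h2, h3⟩ := exists_swap hF hm (orderOf_U hF hb₀) i.2.1 hb₀M i.2.2.1
      inf_mem_ovoid hp (U_smul_inf hF 0 b₀) i.2.2.2 (Ne.symm hne)
    exact ⟨⟨w, hwo, hw, h1, h2⟩, h3⟩
  choose s hs using hsw
  have hsinj : Function.Injective s := fun i j e => Subtype.ext (by rw [← hs i, ← hs j, e])
  have hIcard : Nat.card (scal hF hm M) ≤ Nat.card I := by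
    rw [← card_inf hm hM]
    refine Nat.card_le_card_of_injective (fun b => (⟨h * U hF 0 (b : F) * h⁻¹, ?_,
      mul_mem (mul_mem hh b.2.2) (inv_mem hh), by
        rw [hpdef, mul_smul, mul_smul, inv_smul_smul, U_smul_inf]⟩ : I)) fun b b' e => ?_
    · have e := orderOf_injective (MulAut.conj h).toMonoidHom (MulAut.conj h).injective
        (U hF 0 (b : F))
      simp only [MulEquiv.coe_toMonoidHom, MulAut.conj_apply] at e
      rw [e, orderOf_U hF b.2.1]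
    · exact Subtype.ext (U_inj hF
        (mul_left_cancel (mul_right_cancel (congrArg Subtype.val e)))).2
  have hJne : Nonempty J := by
    obtain ⟨i⟩ : Nonempty I := (Nat.card_pos_iff.1 (lt_of_lt_of_le Nat.card_pos hIcard)).1
    exact ⟨s i⟩
  obtain ⟨w₀⟩ := hJne
  let t : J → {g : Cfsg.Sz F m // g ∈ M ∧ g • ∞' = ∞' ∧ g • p = p} := fun w =>
    ⟨(w₀ : Cfsg.Sz F m) * w, mul_mem w₀.2.2.1 w.2.2.1, by rw [mul_smul, w.2.2.2.1, w₀.2.2.2.2],
      by rw [mul_smul, w.2.2.2.2, w₀.2.2.2.1]⟩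
  have htinj : Function.Injective t := fun w w' e =>
    Subtype.ext (mul_left_cancel (congrArg Subtype.val e))
  have hbij : Function.Bijective (fun i : I => f (t (s i))) :=
    ((hf.comp htinj).comp hsinj).bijective_of_nat_card_le hIcard
  obtain ⟨i, hi⟩ := hbij.2 ⟨k, hk⟩
  obtain ⟨a, c, e⟩ := hfe (t (s i))
  simp only at hi
  rw [hi] at e
  exact ⟨a, c, by rw [← e]; exact (t (s i)).2.1, by rw [← e]; exact (t (s i)).2.2.2⟩

/-- If a torus element of `M` has nontrivial scalar, the orbit of `∞` is `∞` and the orbit of `0`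
under the root elements of `M`. -/
theorem orbit_subset {k : Fˣ} (hk1 : k ≠ 1) (hkT : T hF k ∈ M) {h : Cfsg.Sz F m} (hh : h ∈ M)
    (hne : h • ∞' ≠ ∞') : ∃ a c, U hF a c ∈ M ∧ h • ∞' = pt m a c := by
  classical
  have hk : k ∈ scal hF hm M := ⟨0, 0, by rw [U_zero, one_mul]; exact hkT⟩
  obtain ⟨a, c, hg, hgp⟩ := two_point_scal hm hM hh hne hk
  have hu : U hF a c ∈ M := by
    have := mul_mem hg (inv_mem hkT)
    rwa [mul_inv_cancel_right] at this
  set P : Subgroup (Cfsg.Sz F m) := M ⊓ USub hF with hP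
  let φ : P → P := fun u => ⟨(u : Cfsg.Sz F m) * (T hF k * (u : Cfsg.Sz F m)⁻¹ * (T hF k)⁻¹), by
    obtain ⟨x, y, e⟩ := (Subgroup.mem_inf.1 u.2).2
    refine Subgroup.mem_inf.2 ⟨mul_mem (Subgroup.mem_inf.1 u.2).1 (mul_mem (mul_mem hkT (inv_mem (Subgroup.mem_inf.1 u.2).1)) (inv_mem hkT)),
      mul_mem (Subgroup.mem_inf.1 u.2).2 ?_⟩
    rw [e, U_inv, T_conj_U]
    exact ⟨_, _, rfl⟩⟩
  have hφ : Function.Injective φ := by
    intro u v e
    have e1 : (u : Cfsg.Sz F m) * (T hF k * (u : Cfsg.Sz F m)⁻¹ * (T hF k)⁻¹)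
        = (v : Cfsg.Sz F m) * (T hF k * (v : Cfsg.Sz F m)⁻¹ * (T hF k)⁻¹) := congrArg Subtype.val e
    set x := (v : Cfsg.Sz F m)⁻¹ * u with hx
    have hcom : x ∈ Subgroup.centralizer {T hF k} := by
      rw [Subgroup.mem_centralizer_singleton_iff]
      calc x * T hF k
          = (v : Cfsg.Sz F m)⁻¹ * ((u : Cfsg.Sz F m) * (T hF k * (u : Cfsg.Sz F m)⁻¹ * (T hF k)⁻¹))
              * T hF k * u := by rw [hx]; group
        _ = T hF k * x := by rw [e1, hx]; group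
    obtain ⟨l, hl⟩ := centralizer_T_le hF hm hk1 hcom
    have hxU : x ∈ USub hF := mul_mem (inv_mem (Subgroup.mem_inf.1 v.2).2) (Subgroup.mem_inf.1 u.2).2
    obtain ⟨x1, y1, hxy⟩ := hxU
    have hl' : T hF l = U hF x1 y1 := hl.trans hxy
    have h0 := congrArg (fun g : Cfsg.Sz F m => g • pt m (0 : F) 0) hl'
    simp only [T_smul_zero, U_smul_zero] at h0
    obtain ⟨h1, h2⟩ := pt_inj h0
    rw [← h1, ← h2, U_zero, hx, inv_mul_eq_one] at hxy
    exact Subtype.ext hxy.symm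
  obtain ⟨u, hu'⟩ := (Finite.injective_iff_surjective.1 hφ) ⟨U hF a c, hu, a, c, rfl⟩
  obtain ⟨x, y, hxy⟩ := (Subgroup.mem_inf.1 u.2).2
  have e : U hF x y * T hF k * (U hF x y)⁻¹ = U hF a c * T hF k := by
    have e1 : (u : Cfsg.Sz F m) * (T hF k * (u : Cfsg.Sz F m)⁻¹ * (T hF k)⁻¹) = U hF a c :=
      congrArg Subtype.val hu'
    rw [hxy] at e1
    rw [← e1]
    group
  refine ⟨x, y, hxy ▸ (Subgroup.mem_inf.1 u.2).1, ?_⟩
  have hp : h • ∞' ∈ Cfsg.suzukiOvoid F m := smul_mem_ovoid h inf_mem_ovoid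
  set g := U hF a c * T hF k with hg'
  have hfix0 : g • pt m x y = pt m x y := by
    rw [← e, mul_smul, mul_smul, ← U_smul_zero hF x y, inv_smul_smul, T_smul_zero]
  have hg1 : g ≠ 1 := fun h1 => hk1 (U_T_inj hF
    (h1.trans (show (1 : Cfsg.Sz F m) = U hF 0 0 * T hF 1 by rw [U_zero, T_one, one_mul]))).2.2
  by_contra hne2
  refine hg1 (three_fixed hF hm g ⟨_, inf_mem_ovoid⟩ ⟨_, hp⟩ ⟨_, pt_mem_ovoid x y⟩ ?_ ?_ ?_
    (Subtype.ext (by change g • ∞' = ∞'; rw [hg', mul_smul, T_smul_inf, U_smul_inf]))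
    (Subtype.ext hgp) (Subtype.ext hfix0))
  · exact fun e' => hne (congrArg Subtype.val e').symm
  · exact fun e' => hne2 (congrArg Subtype.val e')
  · exact fun e' => pt_ne_inf x y (congrArg Subtype.val e').symm

end Cfsg.Agent.LocalEven64.SzSub
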