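import Cfsg.Agent.LocalEven64.SzSub.Classify

/-!
# Subfield Suzuki groups
-/

set_option autoImplicit false

namespace Cfsg.Agent.LocalEven64.SzSub

open Cfsg.Agent.Suzuki

variable {F : Type*} [Field F] [Fintype F] {m : ℕ} (hF : Fintype.card F = 2 ^ (2 * m + 1))
  {K : Type*} [Field K] [Fintype K] {j : ℕ} (hK : Fintype.card K = 2 ^ (2 * j + 1))
  (hd : 2 * j + 1 ∣ 2 * m + 1) (ι : K →+* F)
include hF hK hd

omit hF in
theorem pow_exp (x : K) : ∀ e i : ℕ, x ^ (2 ^ (i + (2 * j + 1) * e)) = x ^ (2 ^ i)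
  | 0, i => by rw [mul_zero, add_zero]
  | e + 1, i => by
    rw [show i + (2 * j + 1) * (e + 1) = i + (2 * j + 1) * e + (2 * j + 1) by ring, pow_add, pow_mul,
      pow_exp x e i, ← hK, FiniteField.pow_card]

theorem sig_map (x : K) : sig m (ι x) = ι (sig j x) := by
  obtain ⟨e, he⟩ : ∃ e, m + 1 = j + 1 + (2 * j + 1) * e := by
    obtain ⟨d, hd'⟩ := hd
    obtain ⟨e, rfl⟩ : Odd d := Nat.Odd.of_mul_right (m := 2 * j + 1) (hd' ▸ ⟨m, rfl⟩)
    exact ⟨e, by nlinarith⟩
  simp only [sig]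
  rw [← map_pow, he, pow_exp hK hd x e (j + 1)]

theorem rho_map (x : K) : rho m (ι x) = ι (rho j x) := by
  refine sq_inj hF ?_
  rw [sq, sq, rho_sq, ← map_mul, rho_sq, sig_map hF hK hd]

omit hF hK hd [Fintype F] [Fintype K] in
/-- Base change. -/
noncomputable def base : Matrix.SpecialLinearGroup (Fin 4) K →* Matrix.SpecialLinearGroup (Fin 4) F :=
  Matrix.SpecialLinearGroup.map ι

theorem base_U (a b : K) : base ι (uel j a b) = uel m (ι a) (ι b) := by
  apply Subtype.ext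
  ext r s
  change ι (umat j a b r s) = umat m (ι a) (ι b) r s
  fin_cases r <;> fin_cases s <;> simp [umat, fz, sig_map hF hK hd]

theorem base_T (k : Kˣ) : base ι (tel j k) = tel m (Units.map ι.toMonoidHom k) := by
  apply Subtype.ext
  ext r s
  change ι (Matrix.diagonal ![rho j (k : K) * k, rho j (k : K), (rho j (k : K))⁻¹,
    (rho j (k : K) * k)⁻¹] r s) = Matrix.diagonal ![rho m (ι k) * ι k, rho m (ι k), (rho m (ι k))⁻¹,
    (rho m (ι k) * ι k)⁻¹] r s
  fin_cases r <;> fin_cases s <;> simp [Matrix.diagonal, rho_map hF hK hd]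

theorem base_W : base ι (wel K) = wel F := by
  apply Subtype.ext
  ext r s
  change ι ((wel K : Matrix (Fin 4) (Fin 4) K) r s) = (wel F : Matrix (Fin 4) (Fin 4) F) r s
  fin_cases r <;> fin_cases s <;> simp [wel]

/-- The image of the small group lies in every subgroup containing the small generators. -/
theorem base_mem (hj : 1 ≤ j) (N : Subgroup (Matrix.SpecialLinearGroup (Fin 4) F))
    (hW : wel F ∈ N) (hU : ∀ a b : K, uel m (ι a) (ι b) ∈ N)
    (hT : ∀ k : Kˣ, tel m (Units.map ι.toMonoidHom k) ∈ N) (g : Cfsg.Sz K j) :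
    base ι (g : Matrix.SpecialLinearGroup (Fin 4) K) ∈ N := by
  have hUm : ∀ a b : K, base ι ((U hK a b : Cfsg.Sz K j) : Matrix.SpecialLinearGroup (Fin 4) K) ∈ N :=
    fun a b => by
      change base ι (uel j a b) ∈ N
      rw [base_U hF hK hd]
      exact hU a b
  have hTm : ∀ k : Kˣ, base ι ((T hK k : Cfsg.Sz K j) : Matrix.SpecialLinearGroup (Fin 4) K) ∈ N :=
    fun k => by
      change base ι (tel j k) ∈ N
      rw [base_T hF hK hd]
      exact hT k
  have hWm : base ι ((W hK : Cfsg.Sz K j) : Matrix.SpecialLinearGroup (Fin 4) K) ∈ N := by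
    change base ι (wel K) ∈ N
    rw [base_W hF hK hd]
    exact hW
  rcases decompose hK hj g with ⟨a, b, k, rfl⟩ | ⟨a, b, c, d, k, rfl⟩
  · rw [Subgroup.coe_mul, map_mul]
    exact mul_mem (hUm _ _) (hTm _)
  · rw [Subgroup.coe_mul, Subgroup.coe_mul, Subgroup.coe_mul, map_mul, map_mul, map_mul]
    exact mul_mem (mul_mem (hUm _ _) hWm) (mul_mem (hUm _ _) (hTm _))

/-- The subfield embedding. -/
noncomputable def emb (hj : 1 ≤ j) : Cfsg.Sz K j →* Cfsg.Sz F m :=
  ((base ι).comp (Cfsg.Sz K j).subtype).codRestrict _ fun g =>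
    base_mem hF hK hd ι hj (Cfsg.Sz F m) (wel_mem (m := m) hF) (fun _ _ => uel_mem hF _ _)
      (fun _ => tel_mem hF _) g

theorem emb_injective (hj : 1 ≤ j) : Function.Injective (emb hF hK hd ι hj) := fun g h e => by
  have e' : base ι (g : Matrix.SpecialLinearGroup (Fin 4) K)
      = base ι (h : Matrix.SpecialLinearGroup (Fin 4) K) := congrArg Subtype.val e
  apply Subtype.ext
  apply Subtype.ext
  ext r s
  exact ι.injective (congrArg (fun A : Matrix.SpecialLinearGroup (Fin 4) F =>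
    (A : Matrix (Fin 4) (Fin 4) F) r s) e')

theorem card_range_emb (hj : 1 ≤ j) :
    Nat.card (emb hF hK hd ι hj).range
      = (2 ^ (2 * j + 1)) ^ 2 * ((2 ^ (2 * j + 1)) ^ 2 + 1) * (2 ^ (2 * j + 1) - 1) := by
  rw [← card_Sz hK hj]
  exact Nat.card_congr (MonoidHom.ofInjective (emb_injective hF hK hd ι hj)).toEquiv.symm

/-- A subgroup of the order of the subfield group with its generators is the subfield group. -/
theorem eq_range (hj : 1 ≤ j) (N : Subgroup (Cfsg.Sz F m))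
    (hcard : Nat.card N = (2 ^ (2 * j + 1)) ^ 2 * ((2 ^ (2 * j + 1)) ^ 2 + 1) * (2 ^ (2 * j + 1) - 1))
    (hW : W hF ∈ N) (hU : ∀ a b : F, a ^ 2 ^ (2 * j + 1) = a → b ^ 2 ^ (2 * j + 1) = b → U hF a b ∈ N)
    (hT : ∀ k : Fˣ, (k : F) ^ 2 ^ (2 * j + 1) = k → T hF k ∈ N) :
    N = (emb hF hK hd ι hj).range := by
  have hle : (emb hF hK hd ι hj).range ≤ N := by
    rintro _ ⟨g, rfl⟩
    have hfix : ∀ a : K, ι a ^ 2 ^ (2 * j + 1) = ι a := fun a => by
      rw [← map_pow, ← hK, FiniteField.pow_card]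
    have h := base_mem hF hK hd ι hj (N.map (Cfsg.Sz F m).subtype) ⟨W hF, hW, rfl⟩
      (fun a b => ⟨U hF (ι a) (ι b), hU _ _ (hfix a) (hfix b), rfl⟩)
      (fun k => ⟨T hF (Units.map ι.toMonoidHom k), hT _ (hfix k), rfl⟩) g
    obtain ⟨x, hx, e⟩ := h
    have e' : x = emb hF hK hd ι hj g := Subtype.ext e
    exact e' ▸ hx
  refine (Subgroup.eq_of_le_of_card_ge hle ?_).symm
  rw [hcard, card_range_emb hF hK hd ι hj]

omit hF hK hd [Fintype K] in
theorem exists_ringHom {K : Type*} [Field K] [Fintype K] {j : ℕ}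
    (hF : Fintype.card F = 2 ^ (2 * m + 1)) (hK : Fintype.card K = 2 ^ (2 * j + 1))
    (hd : 2 * j + 1 ∣ 2 * m + 1) : Nonempty (K →+* F) := by
  haveI : CharP F 2 := charP_two hF
  haveI : CharP K 2 := charP_two hK
  letI := ZMod.algebra F 2
  letI := ZMod.algebra K 2
  have h1 : Module.finrank (ZMod 2) F = 2 * m + 1 := by
    have h := Module.natCard_eq_pow_finrank (K := ZMod 2) (V := F)
    rw [Nat.card_eq_fintype_card, hF, Nat.card_zmod] at h
    exact (Nat.pow_right_injective le_rfl h).symm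
  have h2 : Module.finrank (ZMod 2) K = 2 * j + 1 := by
    have h := Module.natCard_eq_pow_finrank (K := ZMod 2) (V := K)
    rw [Nat.card_eq_fintype_card, hK, Nat.card_zmod] at h
    exact (Nat.pow_right_injective le_rfl h).symm
  obtain ⟨f⟩ := FiniteField.nonempty_algHom_of_finrank_dvd (F := ZMod 2) (K := K) (L := F)
    (by rw [h1, h2]; exact hd)
  exact ⟨f.toRingHom⟩

omit hF hK hd [Fintype K] in
theorem not_isSolvable_Sz {K : Type*} [Field K] [Fintype K] {j : ℕ}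
    (hK : Fintype.card K = 2 ^ (2 * j + 1)) (hj : 1 ≤ j) : ¬ Group.IsSolvable (Cfsg.Sz K j) := by
  intro h
  haveI := isSimpleGroup hK hj
  haveI := h
  have h1 := Group.IsSolvable.commutator_lt_top_of_nontrivial (G := Cfsg.Sz K j)
  rw [commutator_eq_top hK hj] at h1
  exact lt_irrefl _ h1

omit hF hK hd [Fintype K] [Fintype F] in
theorem order_injective {i j : ℕ}
    (h : (2 ^ (2 * i + 1)) ^ 2 * ((2 ^ (2 * i + 1)) ^ 2 + 1) * (2 ^ (2 * i + 1) - 1)
      = (2 ^ (2 * j + 1)) ^ 2 * ((2 ^ (2 * j + 1)) ^ 2 + 1) * (2 ^ (2 * j + 1) - 1)) : i = j := by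
  have hlt : ∀ {a b : ℕ}, a < b →
      (2 ^ (2 * a + 1)) ^ 2 * ((2 ^ (2 * a + 1)) ^ 2 + 1) * (2 ^ (2 * a + 1) - 1)
      < (2 ^ (2 * b + 1)) ^ 2 * ((2 ^ (2 * b + 1)) ^ 2 + 1) * (2 ^ (2 * b + 1) - 1) := by
    intro a b hab
    have hp : 2 ^ (2 * a + 1) < 2 ^ (2 * b + 1) := Nat.pow_lt_pow_right one_lt_two (by omega)
    have h1 : 2 ≤ 2 ^ (2 * a + 1) := Nat.le_self_pow (by omega) 2
    have hsq : (2 ^ (2 * a + 1)) ^ 2 < (2 ^ (2 * b + 1)) ^ 2 := Nat.pow_lt_pow_left hp two_ne_zero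
    exact Nat.mul_lt_mul_of_le_of_lt (Nat.mul_le_mul hsq.le (by omega)) (by omega) (by positivity)
  rcases lt_trichotomy i j with h1 | h1 | h1
  · exact absurd h (hlt h1).ne
  · exact h1
  · exact absurd h (hlt h1).ne'

end Cfsg.Agent.LocalEven64.SzSub
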