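import Cfsg.Agent.LocalEven64.SzSub.SolTorus
import Cfsg.Agent.LocalEven64.SzSub.Embed

/-!
# Pairs generating solvable subgroups of a minimal simple Suzuki group
-/

set_option autoImplicit false

namespace Cfsg.Agent.LocalEven64.SzSub

open Cfsg.Agent.Suzuki

/-- The two elements generate a solvable subgroup. -/
abbrev SolP {G : Type*} [Group G] (x y : G) : Prop :=
  Group.IsSolvable (Subgroup.closure ({x, y} : Set G))

theorem solP_map {G H : Type*} [Group G] [Group H] (e : G ≃* H) (x y : G) :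
    SolP (e x) (e y) ↔ SolP x y := by
  have h : Subgroup.closure ({e x, e y} : Set H)
      = (Subgroup.closure ({x, y} : Set G)).map e.toMonoidHom := by
    rw [MonoidHom.map_closure, Set.image_pair]
    rfl
  let e' := (Subgroup.closure ({x, y} : Set G)).equivMapOfInjective e.toMonoidHom e.injective
  show Group.IsSolvable (Subgroup.closure ({e x, e y} : Set H)) ↔ _
  rw [h]
  constructor
  · intro hs
    exact Group.isSolvable_of_isSolvable_injective (f := e'.toMonoidHom) e'.injective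
  · intro hs
    exact Group.isSolvable_of_isSolvable_injective (f := e'.symm.toMonoidHom) e'.symm.injective

theorem card_solP_map {G H : Type*} [Group G] [Group H] (e : G ≃* H) (x : G) :
    Nat.card {y : H // SolP (e x) y} = Nat.card {y : G // SolP x y} :=
  (Nat.card_congr (e.toEquiv.subtypeEquiv fun y => (solP_map e x y).symm)).symm

theorem card_solP_conj {G : Type*} [Group G] (c x : G) :
    Nat.card {y : G // SolP (c * x * c⁻¹) y} = Nat.card {y : G // SolP x y} :=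
  card_solP_map (MulAut.conj c) x

/-- Elements of odd order of a group `N = X · W` with `|W|` dividing four lie in `X`. -/
theorem mem_of_odd_order {G : Type*} [Group G] [Finite G] {X : Subgroup G} {w : ℕ} (hw4 : w ∣ 4)
    (hw : Nat.card (Subgroup.normalizer (X : Set G)) = Nat.card X * w) {y : G}
    (hy : y ∈ Subgroup.normalizer (X : Set G)) (ho : Odd (orderOf y)) : y ∈ X := by
  set N := Subgroup.normalizer (X : Set G)
  set K := X.subgroupOf N
  have hK : Nat.card K = Nat.card X :=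
    Nat.card_congr (Subgroup.subgroupOfEquivOfLe (Subgroup.le_normalizer : X ≤ N)).toEquiv
  have hidx : K.index = w := by
    have h := K.index_mul_card
    rw [hK, hw, mul_comm] at h
    exact Nat.eq_of_mul_eq_mul_left Nat.card_pos h
  obtain ⟨d, hd⟩ := hw4
  have h1 : (⟨y, hy⟩ : N) ^ 4 ∈ K := by
    rw [hd, pow_mul, ← hidx]
    exact pow_mem (Subgroup.pow_index_mem K _) d
  have h2 : y ^ 4 ∈ X := Subgroup.mem_subgroupOf.1 h1
  obtain ⟨k, hk⟩ := exists_pow_eq_self_of_coprime (n := 4) (x := y)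
    (show Nat.Coprime (2 ^ 2) (orderOf y) from
      Nat.Coprime.pow_left 2 (Nat.coprime_two_left.2 ho))
  rw [← hk]
  exact pow_mem h2 k

variable {F : Type*} [Field F] [Fintype F] {m : ℕ} (hF : Fintype.card F = 2 ^ (2 * m + 1))
include hF

local notation "∞'" => Cfsg.suzukiPointInfinity F

theorem proper_solvable (hm : 1 ≤ m) (hp : (2 * m + 1).Prime) (M : Subgroup (Cfsg.Sz F m))
    (hM : M ≠ ⊤) : Group.IsSolvable M := by
  by_contra hns
  obtain ⟨j, g, hj, hd, hcard, -⟩ := nonsolvable_conj hF hm M hns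
  have hjm : j = m := by
    rcases (Nat.dvd_prime hp).1 hd with h | h <;> omega
  subst hjm
  exact hM (Subgroup.eq_top_of_card_eq M (by rw [hcard, card_Sz hF hm]))

theorem solP_of_le (hm : 1 ≤ m) (hp : (2 * m + 1).Prime) {M : Subgroup (Cfsg.Sz F m)} (hM : M ≠ ⊤)
    {x y : Cfsg.Sz F m} (hx : x ∈ M) (hy : y ∈ M) : SolP x y :=
  proper_solvable hF hm hp _ (ne_top_of_le_ne_top hM ((Subgroup.closure_le M).2 (by
    rintro _ (rfl | rfl) <;> assumption)))

theorem stab_ne_top {p : Projectivization F (Fin 4 → F)} (hp : p ∈ Cfsg.suzukiOvoid F m) :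
    MulAction.stabilizer (Cfsg.Sz F m) p ≠ ⊤ := by
  intro e
  obtain ⟨g, hg⟩ := exists_smul_inf hF p hp
  have h : (g * W hF * g⁻¹) • p = p :=
    MulAction.mem_stabilizer_iff.1 (e ▸ Subgroup.mem_top (g * W hF * g⁻¹))
  rw [← hg, mul_smul, mul_smul, inv_smul_smul, smul_left_cancel_iff, W_smul_inf] at h
  exact pt_ne_inf 0 0 h

theorem torus_T (hm : 1 ≤ m) : Torus (THom hF).range := by
  obtain ⟨k₀, hk0, hk1⟩ := exists_ne_zero_one hF hm
  refine ⟨?_, ⟨T hF (Units.mk0 k₀ hk0), ⟨_, rfl⟩, fun h =>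
    hk1 (congrArg Units.val (T_inj hF (h.trans (T_one hF).symm)))⟩, ?_⟩
  · rw [card_range_T]; exact odd_card_units hF
  · rintro _ ⟨k, rfl⟩ hu1
    refine le_antisymm (centralizer_T_le hF hm fun h => hu1 (by rw [h, map_one])) ?_
    rintro _ ⟨l, rfl⟩
    rw [Subgroup.mem_centralizer_singleton_iff, ← map_mul, ← map_mul, mul_comm]

theorem torus_cent (hm : 1 ≤ m) {g : Cfsg.Sz F m} (hg : Fpf g) :
    Torus (Subgroup.centralizer ({g} : Set (Cfsg.Sz F m))) := by
  refine ⟨?_, ⟨g, Subgroup.mem_centralizer_singleton_iff.2 rfl, fpf_ne_one hg⟩,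
    fun u hu hu1 => ((torus hF hm hg).2 u hu hu1).2⟩
  refine Odd.of_dvd_nat ?_ (card_torus_dvd hF hm hg)
  exact (Even.pow_of_ne_zero (q_facts hF hm).2 two_ne_zero).add_one

theorem normalizer_cent_ne_top (hm : 1 ≤ m) {g : Cfsg.Sz F m} (hg : Fpf g) :
    Subgroup.normalizer (Subgroup.centralizer {g} : Set (Cfsg.Sz F m)) ≠ ⊤ := by
  intro e
  obtain ⟨w, hw, hN⟩ := card_torus_normalizer hF hm hg
  rw [e, Subgroup.card_top, card_Sz hF hm, ← hF] at hN
  have h1 := Nat.le_of_dvd (by positivity) (card_torus_dvd hF hm hg)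
  have h2 := Nat.le_of_dvd (by norm_num) hw
  have h8 := (q_facts hF hm).1
  have h3 : 64 ≤ Fintype.card F ^ 2 := Nat.pow_le_pow_left h8 2
  have h4 : Fintype.card F ^ 2 * (Fintype.card F ^ 2 + 1) * 1
      ≤ Fintype.card F ^ 2 * (Fintype.card F ^ 2 + 1) * (Fintype.card F - 1) :=
    Nat.mul_le_mul_left _ (by omega)
  rw [hN, mul_one] at h4
  have h5 := h4.trans (Nat.mul_le_mul h1 h2)
  nlinarith

theorem normalizer_T_ne_top (hm : 1 ≤ m) :
    Subgroup.normalizer ((THom hF).range : Set (Cfsg.Sz F m)) ≠ ⊤ := by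
  intro e
  have hN := card_normalizer_T hF hm
  rw [e, Subgroup.card_top, card_Sz hF hm, ← hF] at hN
  have h3 : 64 ≤ Fintype.card F ^ 2 := Nat.pow_le_pow_left (q_facts hF hm).1 2
  have h1 : 2 < Fintype.card F ^ 2 * (Fintype.card F ^ 2 + 1) := by nlinarith
  have h8 := (q_facts hF hm).1
  exact absurd hN.symm (Nat.mul_lt_mul_of_pos_right h1 (by omega)).ne

/-- Membership in a conjugate of the normalizer of `X`. -/
def InN (X : Subgroup (Cfsg.Sz F m)) (x y : Cfsg.Sz F m) : Prop :=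
  ∃ h, h⁻¹ * x * h ∈ Subgroup.normalizer (X : Set (Cfsg.Sz F m)) ∧
    h⁻¹ * y * h ∈ Subgroup.normalizer (X : Set (Cfsg.Sz F m))

theorem solP_of_inN (hm : 1 ≤ m) (hp : (2 * m + 1).Prime) {X : Subgroup (Cfsg.Sz F m)}
    (hX : Subgroup.normalizer (X : Set (Cfsg.Sz F m)) ≠ ⊤) {x y : Cfsg.Sz F m} (h : InN X x y) :
    SolP x y := by
  obtain ⟨h, hx, hy⟩ := h
  rw [← solP_map (MulAut.conj h⁻¹)]
  exact solP_of_le hF hm hp hX (by simpa using hx) (by simpa using hy)

theorem solP_of_point (hm : 1 ≤ m) (hp : (2 * m + 1).Prime) {p : Projectivization F (Fin 4 → F)}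
    (hpo : p ∈ Cfsg.suzukiOvoid F m) {x y : Cfsg.Sz F m} (hx : x • p = p) (hy : y • p = p) :
    SolP x y :=
  solP_of_le hF hm hp (stab_ne_top hF hpo) hx hy

/-- The two tori. -/
structure Tori (g₁ g₂ : Cfsg.Sz F m) : Prop where
  fpf₁ : Fpf g₁
  fpf₂ : Fpf g₂
  card₁ : Nat.card (Subgroup.centralizer ({g₁} : Set (Cfsg.Sz F m)))
    = Fintype.card F + 2 ^ (m + 1) + 1
  card₂ : Nat.card (Subgroup.centralizer ({g₂} : Set (Cfsg.Sz F m)))
    = Fintype.card F - 2 ^ (m + 1) + 1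
  norm₁ : Nat.card (Subgroup.normalizer (Subgroup.centralizer {g₁} : Set (Cfsg.Sz F m)))
    = Nat.card (Subgroup.centralizer ({g₁} : Set (Cfsg.Sz F m))) * 4
  norm₂ : Nat.card (Subgroup.normalizer (Subgroup.centralizer {g₂} : Set (Cfsg.Sz F m)))
    = Nat.card (Subgroup.centralizer ({g₂} : Set (Cfsg.Sz F m))) * 4

theorem exists_tori (hm : 1 ≤ m) : ∃ g₁ g₂ : Cfsg.Sz F m, Tori g₁ g₂ := by
  obtain ⟨g₁, g₂, h1, h2, h3, h4, h5, h6⟩ := torus_orders hF hm
  exact ⟨g₁, g₂, h1, h2, h3, h4, h5.trans (mul_comm _ _), h6.trans (mul_comm _ _)⟩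

omit hF in
theorem exists_two {X : Subgroup (Cfsg.Sz F m)} {w : ℕ} (hw : 2 ∣ w)
    (h : Nat.card (Subgroup.normalizer (X : Set (Cfsg.Sz F m))) = Nat.card X * w) :
    ∃ i ∈ Subgroup.normalizer (X : Set (Cfsg.Sz F m)), orderOf i = 2 := by
  haveI : Fact (Nat.Prime 2) := ⟨Nat.prime_two⟩
  obtain ⟨i, hi⟩ := exists_prime_orderOf_dvd_card'
    (G := Subgroup.normalizer (X : Set (Cfsg.Sz F m))) 2 (h ▸ hw.mul_left _)
  exact ⟨i, i.2, by rw [Subgroup.orderOf_coe, hi]⟩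

theorem two_r_le (hm : 1 ≤ m) : 2 * 2 ^ (m + 1) ≤ Fintype.card F := by
  rw [hF, ← pow_succ']; exact Nat.pow_le_pow_right (by norm_num) (by omega)

theorem r_sq : 2 ^ (m + 1) * 2 ^ (m + 1) = 2 * Fintype.card F := by
  rw [hF, ← pow_add, ← pow_succ']
  congr 1
  ring

theorem Tori.prod {g₁ g₂ : Cfsg.Sz F m} (H : Tori g₁ g₂) (hm : 1 ≤ m) :
    Nat.card (Subgroup.centralizer ({g₁} : Set (Cfsg.Sz F m)))
      * Nat.card (Subgroup.centralizer ({g₂} : Set (Cfsg.Sz F m))) = Fintype.card F ^ 2 + 1 := by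
  rw [H.card₁, H.card₂]
  have h2 := two_r_le hF hm
  obtain ⟨c, hc⟩ := Nat.exists_eq_add_of_le (show 2 ^ (m + 1) ≤ Fintype.card F by omega)
  have hrs := r_sq hF
  rw [hc] at hrs ⊢
  rw [Nat.add_sub_cancel_left]
  nlinarith

theorem Tori.cover {g₁ g₂ : Cfsg.Sz F m} (H : Tori g₁ g₂) (hm : 1 ≤ m) {g : Cfsg.Sz F m}
    (hg : Fpf g) :
    (∃ h, Subgroup.centralizer {g} = (Subgroup.centralizer {g₁}).map (MulAut.conj h).toMonoidHom) ∨
      ∃ h, Subgroup.centralizer {g} = (Subgroup.centralizer {g₂}).map (MulAut.conj h).toMonoidHom := by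
  obtain ⟨p, hp, hpa⟩ := Nat.exists_prime_and_dvd (show Nat.card (Subgroup.centralizer {g}) ≠ 1 by
    intro h1
    refine fpf_ne_one hg ?_
    have := Subgroup.eq_bot_of_card_eq _ h1
    have hgm : g ∈ Subgroup.centralizer {g} := Subgroup.mem_centralizer_singleton_iff.2 rfl
    rwa [this, Subgroup.mem_bot] at hgm)
  have h := hpa.trans (card_torus_dvd hF hm hg)
  rw [← H.prod hF hm] at h
  rcases hp.dvd_mul.1 h with h' | h'
  · exact Or.inl (torus_conj hF hm H.fpf₁ hg hp h' hpa)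
  · exact Or.inr (torus_conj hF hm H.fpf₂ hg hp h' hpa)

theorem inN_of_conj (hm : 1 ≤ m) {g₀ g : Cfsg.Sz F m} (hg₀ : Fpf g₀) {h : Cfsg.Sz F m}
    (e : Subgroup.centralizer {g} = (Subgroup.centralizer {g₀}).map (MulAut.conj h).toMonoidHom)
    {z : Cfsg.Sz F m}
    (hz : z ∈ Subgroup.normalizer (Subgroup.centralizer {g} : Set (Cfsg.Sz F m))) :
    h⁻¹ * z * h ∈ Subgroup.normalizer (Subgroup.centralizer {g₀} : Set (Cfsg.Sz F m)) := by
  have hmem : g₀ ∈ Subgroup.centralizer {g₀} := Subgroup.mem_centralizer_singleton_iff.2 rfl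
  refine (torus_cent hF hm hg₀).tsi hmem (fpf_ne_one hg₀) ?_
  have h1 : h * g₀ * h⁻¹ ∈ Subgroup.centralizer {g} := by rw [e]; exact ⟨g₀, hmem, rfl⟩
  have h2 := (Subgroup.mem_normalizer_iff.1 hz _).1 h1
  rw [e, mem_map_conj] at h2
  convert h2 using 1
  group

theorem Tori.solP_cases {g₁ g₂ : Cfsg.Sz F m} (H : Tori g₁ g₂) (hm : 1 ≤ m)
    {x y : Cfsg.Sz F m} (hs : SolP x y) :
    (∃ p ∈ Cfsg.suzukiOvoid F m, x • p = p ∧ y • p = p) ∨ InN (THom hF).range x y ∨
      InN (Subgroup.centralizer {g₁}) x y ∨ InN (Subgroup.centralizer {g₂}) x y := by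
  haveI := hs
  have hx : x ∈ Subgroup.closure ({x, y} : Set (Cfsg.Sz F m)) := Subgroup.subset_closure (Or.inl rfl)
  have hy : y ∈ Subgroup.closure ({x, y} : Set (Cfsg.Sz F m)) := Subgroup.subset_closure (Or.inr rfl)
  rcases solvable_cases hF hm (Subgroup.closure ({x, y} : Set (Cfsg.Sz F m))) with
    ⟨g, hg⟩ | ⟨g, hg⟩ | ⟨g, hg, hle⟩
  · exact Or.inl ⟨g • ∞', smul_mem_ovoid g inf_mem_ovoid, hg x hx, hg y hy⟩
  · exact Or.inr (Or.inl ⟨g, hg x hx, hg y hy⟩)
  · rcases H.cover hF hm hg with ⟨h, e⟩ | ⟨h, e⟩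
    · exact Or.inr (Or.inr (Or.inl ⟨h, inN_of_conj hF hm H.fpf₁ e (hle hx),
        inN_of_conj hF hm H.fpf₁ e (hle hy)⟩))
    · exact Or.inr (Or.inr (Or.inr ⟨h, inN_of_conj hF hm H.fpf₂ e (hle hx),
        inN_of_conj hF hm H.fpf₂ e (hle hy)⟩))

end Cfsg.Agent.LocalEven64.SzSub
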