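import Mathlib
import Cfsg.Agent.BSW7.Common

/-!
# Counting pairs in the normalizer of a self-centralising subgroup of odd order
-/

set_option autoImplicit false

namespace Cfsg.Agent.LocalEven64.SzSub

open Subgroup

variable {G : Type*} [Group G]

/-- A nontrivial subgroup of odd order which is the centralizer of each of its nontrivial
elements. -/
structure Torus (X : Subgroup G) : Prop where
  odd : Odd (Nat.card X)
  nt : ∃ u ∈ X, u ≠ 1
  cent : ∀ u ∈ X, u ≠ 1 → centralizer ({u} : Set G) = X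

/-- The pairs `h` with `h⁻¹ x h` in a given set. -/
theorem card_conj_into [Finite G] (x : G) (S : Set G) :
    Nat.card {h : G // h⁻¹ * x * h ∈ S} = Nat.card {n : G // n ∈ S ∧ IsConj x n}
      * Nat.card (centralizer ({x} : Set G)) := by
  classical
  have hex : ∀ n : {n : G // n ∈ S ∧ IsConj x n}, ∃ h, h⁻¹ * x * h = n.1 := fun n => by
    obtain ⟨c, hc⟩ := isConj_iff.1 n.2.2
    exact ⟨c⁻¹, by rw [inv_inv, hc]⟩
  choose h₀ hh₀ using hex
  rw [← Nat.card_prod]
  refine Nat.card_congr (Equiv.ofBijective (fun p : {n : G // n ∈ S ∧ IsConj x n} × centralizer ({x} : Set G) =>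
    (⟨(p.2 : G) * h₀ p.1, by
      have hc := mem_centralizer_singleton_iff.1 p.2.2
      have : ((p.2 : G) * h₀ p.1)⁻¹ * x * ((p.2 : G) * h₀ p.1) = p.1.1 := by
        rw [← hh₀ p.1]
        calc ((p.2 : G) * h₀ p.1)⁻¹ * x * ((p.2 : G) * h₀ p.1)
            = (h₀ p.1)⁻¹ * ((p.2 : G)⁻¹ * (x * (p.2 : G))) * h₀ p.1 := by group
          _ = _ := by rw [← hc]; group
      rw [this]; exact p.1.2.1⟩ : {h : G // h⁻¹ * x * h ∈ S})) ⟨?_, ?_⟩).symm
  · rintro ⟨n, c⟩ ⟨n', c'⟩ e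
    have e' : (c : G) * h₀ n = (c' : G) * h₀ n' := congrArg Subtype.val e
    have key : ∀ (n : {n : G // n ∈ S ∧ IsConj x n}) (c : centralizer ({x} : Set G)),
        ((c : G) * h₀ n)⁻¹ * x * ((c : G) * h₀ n) = n.1 := fun n c => by
      have hc := mem_centralizer_singleton_iff.1 c.2
      rw [← hh₀ n]
      calc ((c : G) * h₀ n)⁻¹ * x * ((c : G) * h₀ n)
          = (h₀ n)⁻¹ * ((c : G)⁻¹ * (x * (c : G))) * h₀ n := by group
        _ = _ := by rw [← hc]; group
    have hn : n = n' := Subtype.ext (by rw [← key n c, e', key n' c'])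
    subst hn
    exact Prod.ext rfl (Subtype.ext (mul_right_cancel e'))
  · rintro ⟨h, hh⟩
    have hconj : IsConj x (h⁻¹ * x * h) := isConj_iff.2 ⟨h⁻¹, by rw [inv_inv]⟩
    set n : {n : G // n ∈ S ∧ IsConj x n} := ⟨_, hh, hconj⟩ with hn
    refine ⟨(n, ⟨h * (h₀ n)⁻¹, mem_centralizer_singleton_iff.2 ?_⟩), Subtype.ext ?_⟩
    · have e : (h₀ n)⁻¹ * x * h₀ n = h⁻¹ * x * h := hh₀ n
      calc h * (h₀ n)⁻¹ * x = h * ((h₀ n)⁻¹ * x * h₀ n) * (h₀ n)⁻¹ := by group
        _ = _ := by rw [e]; group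
    · simp

namespace Torus

variable {X : Subgroup G} (hX : Torus X)
include hX

local notation "NX" => Subgroup.normalizer ((X : Subgroup G) : Set G)

theorem tsi {h u : G} (hu : u ∈ X) (hu1 : u ≠ 1) (hh : h * u * h⁻¹ ∈ X) : h ∈ NX := by
  have h1 : h * u * h⁻¹ ≠ 1 := fun e => hu1 (conj_eq_one_iff.mp e)
  rw [Subgroup.mem_normalizer_iff]
  intro y
  conv_lhs => rw [← hX.cent u hu hu1]
  conv_rhs => rw [← hX.cent _ hh h1]
  rw [mem_centralizer_singleton_iff, mem_centralizer_singleton_iff]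
  constructor
  · intro e
    calc h * y * h⁻¹ * (h * u * h⁻¹) = h * (y * u) * h⁻¹ := by group
      _ = h * (u * y) * h⁻¹ := by rw [e]
      _ = _ := by group
  · intro e
    calc y * u = h⁻¹ * (h * y * h⁻¹ * (h * u * h⁻¹)) * h := by group
      _ = h⁻¹ * (h * u * h⁻¹ * (h * y * h⁻¹)) * h := by rw [e]
      _ = _ := by group

theorem eq_one_of_sq {v : G} (hv : v ∈ X) (h : v * v = 1) : v = 1 := by
  have hd : orderOf v ∣ 2 := orderOf_dvd_of_pow_eq_one (by rw [sq, h])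
  have hd' : orderOf v ∣ Nat.card X := by
    rw [← Subgroup.orderOf_mk v hv]; exact orderOf_dvd_natCard _
  have hcop : Nat.Coprime 2 (Nat.card X) := Nat.coprime_two_left.2 hX.odd
  exact orderOf_eq_one_iff.1 (Nat.eq_one_of_dvd_one (hcop ▸ Nat.dvd_gcd hd hd'))

theorem not_mem {i : G} (hi : orderOf i = 2) : i ∉ X := fun h => by
  have h2 : i ^ 2 = 1 := by rw [← hi]; exact pow_orderOf_eq_one i
  rw [sq] at h2
  rw [hX.eq_one_of_sq h h2, orderOf_one] at hi
  omega

omit hX in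
theorem sq_of_two {i : G} (hi : orderOf i = 2) : i * i = 1 := by
  rw [← sq, ← hi]; exact pow_orderOf_eq_one i

variable [Finite G]

theorem inverts {i u : G} (hiN : i ∈ NX) (hi : orderOf i = 2) (hu : u ∈ X) :
    i * u * i⁻¹ = u⁻¹ := by
  refine BSW7.inverts_of_fpf (sq_of_two hi)
    (fun a ha => (Subgroup.mem_normalizer_iff.1 hiN a).1 ha) (fun a ha e => ?_) hu
  by_contra ha1
  refine hX.not_mem hi ?_
  rw [← hX.cent a ha ha1, mem_centralizer_singleton_iff]
  exact mul_inv_eq_iff_eq_mul.1 e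

theorem mul_mem_of_two {i j : G} (hiN : i ∈ NX) (hjN : j ∈ NX) (hi : orderOf i = 2)
    (hj : orderOf j = 2) : i * j ∈ X := by
  obtain ⟨u, hu, hu1⟩ := hX.nt
  rw [← hX.cent u hu hu1, mem_centralizer_singleton_iff, ← mul_inv_eq_iff_eq_mul]
  calc i * j * u * (i * j)⁻¹ = i * (j * u * j⁻¹) * i⁻¹ := by group
    _ = u := by rw [hX.inverts hjN hj hu, hX.inverts hiN hi (inv_mem hu), inv_inv]

theorem comm_two {i n : G} (hiN : i ∈ NX) (hi : orderOf i = 2) (hnN : n ∈ NX) (hn : n * n = 1)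
    (hc : n * i = i * n) : n = 1 ∨ n = i := by
  refine or_iff_not_imp_left.2 fun hn1 => ?_
  have hno : orderOf n = 2 := orderOf_eq_prime (by rw [sq, hn]) hn1
  have hmem := hX.mul_mem_of_two hiN hnN hi hno
  have h1 : (i * n) * (i * n) = 1 := by
    calc (i * n) * (i * n) = i * (n * i) * n := by group
      _ = (i * i) * (n * n) := by rw [hc]; group
      _ = 1 := by rw [sq_of_two hi, hn, one_mul]
  have h2 := hX.eq_one_of_sq hmem h1
  have h3 : i⁻¹ = n := inv_eq_of_mul_eq_one_right h2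
  rw [← h3, inv_eq_of_mul_eq_one_right (sq_of_two hi)]

omit hX [Finite G] in
theorem orderOf_conj' (g a : G) : orderOf (g * a * g⁻¹) = orderOf a :=
  orderOf_injective (MulAut.conj g).toMonoidHom (MulAut.conj g).injective a

theorem mul_two {i u : G} (hiN : i ∈ NX) (hi : orderOf i = 2) (hu : u ∈ X) :
    orderOf (i * u) = 2 := by
  have hii := sq_of_two hi
  have hii' : i⁻¹ = i := inv_eq_of_mul_eq_one_right hii
  refine orderOf_eq_prime ?_ fun e => hX.not_mem hi ?_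
  · rw [sq]
    have h1 := hX.inverts hiN hi hu
    rw [hii'] at h1
    rw [← mul_assoc, h1, inv_mul_cancel]
  · rw [eq_inv_of_mul_eq_one_left e]; exact inv_mem hu

theorem card_two {i : G} (hiN : i ∈ NX) (hi : orderOf i = 2) :
    Nat.card {j : G // j ∈ NX ∧ orderOf j = 2} = Nat.card X := by
  refine (Nat.card_congr (Equiv.ofBijective (fun u : X =>
    (⟨i * (u : G), mul_mem hiN (Subgroup.le_normalizer u.2), hX.mul_two hiN hi u.2⟩ :
      {j : G // j ∈ NX ∧ orderOf j = 2})) ⟨?_, ?_⟩)).symm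
  · intro u v e
    exact Subtype.ext (mul_left_cancel (congrArg Subtype.val e))
  · rintro ⟨j, hjN, hj⟩
    refine ⟨⟨i * j, hX.mul_mem_of_two hiN hjN hi hj⟩, Subtype.ext ?_⟩
    change i * (i * j) = j
    rw [← mul_assoc, sq_of_two hi, one_mul]

theorem card_normalizer {i : G} (hiN : i ∈ NX) (hi : orderOf i = 2) :
    Nat.card NX = Nat.card X * Nat.card (centralizer ({i} : Set G) ⊓ NX : Subgroup G) := by
  rw [← Nat.card_prod]
  refine (Nat.card_congr (Equiv.ofBijective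
    (fun p : X × (centralizer ({i} : Set G) ⊓ NX : Subgroup G) =>
      (⟨(p.1 : G) * (p.2 : G), mul_mem (Subgroup.le_normalizer p.1.2) p.2.2.2⟩ : NX)) ⟨?_, ?_⟩)).symm
  · rintro ⟨u, c⟩ ⟨u', c'⟩ e
    have e' : (u : G) * (c : G) = (u' : G) * (c' : G) := congrArg Subtype.val e
    have hv : (u' : G)⁻¹ * (u : G) = (c' : G) * (c : G)⁻¹ := by
      calc (u' : G)⁻¹ * (u : G) = (u' : G)⁻¹ * ((u : G) * (c : G)) * (c : G)⁻¹ := by group
        _ = _ := by rw [e']; group
    set v := (u' : G)⁻¹ * (u : G) with hvdef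
    have hvX : v ∈ X := mul_mem (inv_mem u'.2) u.2
    have hvC : v ∈ centralizer ({i} : Set G) := hv ▸ mul_mem c'.2.1 (inv_mem c.2.1)
    have h1 := hX.inverts hiN hi hvX
    rw [mem_centralizer_singleton_iff] at hvC
    rw [← hvC, mul_inv_cancel_right] at h1
    have h2 := hX.eq_one_of_sq hvX (by nth_rewrite 2 [h1]; exact mul_inv_cancel v)
    rw [hvdef, inv_mul_eq_one] at h2
    refine Prod.ext (Subtype.ext h2.symm) (Subtype.ext ?_)
    rw [← h2] at e'
    exact mul_left_cancel e'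
  · rintro ⟨n, hn⟩
    have hjN : n * i * n⁻¹ ∈ NX := mul_mem (mul_mem hn hiN) (inv_mem hn)
    have hj : orderOf (n * i * n⁻¹) = 2 := by
      refine orderOf_eq_prime ?_ fun e => ?_
      · rw [sq]
        calc n * i * n⁻¹ * (n * i * n⁻¹) = n * (i * i) * n⁻¹ := by group
          _ = 1 := by rw [sq_of_two hi, mul_one, mul_inv_cancel]
      · rw [conj_eq_one_iff] at e
        rw [e, orderOf_one] at hi; omega
    have hw := hX.mul_mem_of_two hjN hiN hj hi
    set w := n * i * n⁻¹ * i with hwdef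
    obtain ⟨s, hs⟩ := hX.odd
    set v := w ^ (s + 1) with hvdef
    have hvX : v ∈ X := pow_mem hw _
    have hv2 : v * v = w := by
      rw [hvdef, ← pow_add, show s + 1 + (s + 1) = Nat.card X + 1 by omega, pow_succ]
      have : w ^ Nat.card X = 1 := by
        have h := pow_card_eq_one' (x := (⟨w, hw⟩ : X))
        exact congrArg Subtype.val h
      rw [this, one_mul]
    have hvi : v * i * v⁻¹ = n * i * n⁻¹ := by
      have h1 := hX.inverts hiN hi hvX
      calc v * i * v⁻¹ = v * (i * v⁻¹ * i⁻¹) * i := by group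
        _ = v * v * i := by rw [hX.inverts hiN hi (inv_mem hvX), inv_inv]
        _ = _ := by rw [hv2, hwdef, mul_assoc, sq_of_two hi, mul_one]
    refine ⟨(⟨v, hvX⟩, ⟨v⁻¹ * n, Subgroup.mem_inf.2 ⟨mem_centralizer_singleton_iff.2 ?_,
      mul_mem (inv_mem (Subgroup.le_normalizer hvX : v ∈ NX)) hn⟩⟩), Subtype.ext ?_⟩
    · calc v⁻¹ * n * i = v⁻¹ * (n * i * n⁻¹) * n := by group
        _ = _ := by rw [← hvi]; group
    · change v * (v⁻¹ * n) = n
      rw [mul_inv_cancel_left]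

/-- The count of `y` outside `B` lying with `x` in a conjugate of the normalizer. -/
theorem card_pairs {B : Subgroup G} {x z : G}
    (hz : z ∈ zpowers x) (hzo : orderOf z = 2)
    (hC : ∀ y, y * z = z * y → y ∈ B)
    (hB : ∀ b ∈ B, (z * (b * z * b⁻¹)) * (z * (b * z * b⁻¹)) = 1)
    (hne : ∃ i ∈ NX, orderOf i = 2)
    (hn : Nat.card {n : G // n ∈ NX ∧ IsConj x n} = Nat.card X) :
    Nat.card {y : G // y ∉ B ∧ ∃ h, h⁻¹ * x * h ∈ NX ∧ h⁻¹ * y * h ∈ NX}
      = Nat.card (centralizer ({x} : Set G)) * (Nat.card X - 1) := by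
  classical
  have hzN : ∀ h, h⁻¹ * x * h ∈ NX → h⁻¹ * z * h ∈ NX ∧ orderOf (h⁻¹ * z * h) = 2 := by
    intro h hh
    constructor
    · obtain ⟨k, rfl⟩ := Subgroup.mem_zpowers_iff.1 hz
      have e : h⁻¹ * x ^ k * h = (h⁻¹ * x * h) ^ k := by
        have := (conj_zpow (i := k) (a := h⁻¹) (b := x))
        rw [inv_inv] at this
        exact this.symm
      rw [e]
      exact zpow_mem hh k
    · have := orderOf_conj' h⁻¹ z
      rw [inv_inv] at this
      rw [this, hzo]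
  have hd : ∀ h y, h⁻¹ * x * h ∈ NX → h⁻¹ * y * h ∈ NX →
      h⁻¹ * (z * (y * z * y⁻¹)) * h ∈ X := by
    intro h y hx hy
    obtain ⟨hi, hio⟩ := hzN h hx
    have hj : (h⁻¹ * y * h) * (h⁻¹ * z * h) * (h⁻¹ * y * h)⁻¹ ∈ NX :=
      mul_mem (mul_mem hy hi) (inv_mem hy)
    have hjo : orderOf ((h⁻¹ * y * h) * (h⁻¹ * z * h) * (h⁻¹ * y * h)⁻¹) = 2 := by
      rw [orderOf_conj', hio]
    have h1 := hX.mul_mem_of_two hi hj hio hjo
    convert h1 using 1
    group
  have hzz := sq_of_two hzo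
  have hdne : ∀ y, y ∉ B → z * (y * z * y⁻¹) ≠ 1 := by
    intro y hy e
    refine hy (hC y ?_)
    have h1 : z⁻¹ = y * z * y⁻¹ := inv_eq_of_mul_eq_one_right e
    rw [inv_eq_of_mul_eq_one_right hzz] at h1
    calc y * z = (y * z * y⁻¹) * y := by group
      _ = z * y := by rw [← h1]
  set H := {h : G // h⁻¹ * x * h ∈ NX} with hHdef
  set Y := {y : G // y ∉ B ∧ ∃ h, h⁻¹ * x * h ∈ NX ∧ h⁻¹ * y * h ∈ NX} with hYdef
  have hex : ∀ y : Y, ∃ h, h⁻¹ * x * h ∈ NX ∧ h⁻¹ * y.1 * h ∈ NX := fun y => y.2.2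
  choose h₀ hx₀ hy₀ using hex
  have huniq : ∀ (y : Y) h, h⁻¹ * x * h ∈ NX → h⁻¹ * y.1 * h ∈ NX → (h₀ y)⁻¹ * h ∈ NX := by
    intro y h hx hy
    have h1 := hd h y.1 hx hy
    have h2 := hd (h₀ y) y.1 (hx₀ y) (hy₀ y)
    refine hX.tsi h1 (fun e => hdne y.1 y.2.1 ?_) ?_
    · have := congrArg (fun t => h * t * h⁻¹) e
      simpa [mul_assoc] using this
    · convert h2 using 1
      group
  let P := Σ h : H, {n : NX // h.1 * (n : G) * h.1⁻¹ ∉ B}
  let toY : P → Y := fun p => ⟨p.1.1 * ((p.2.1 : NX) : G) * p.1.1⁻¹, p.2.2, p.1.1, p.1.2, by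
    have : p.1.1⁻¹ * (p.1.1 * ((p.2.1 : NX) : G) * p.1.1⁻¹) * p.1.1 = ((p.2.1 : NX) : G) := by group
    rw [this]; exact p.2.1.2⟩
  let f : P → Y × NX := fun p => (toY p, ⟨(h₀ (toY p))⁻¹ * p.1.1, huniq (toY p) p.1.1 p.1.2 (by
    have : p.1.1⁻¹ * (p.1.1 * ((p.2.1 : NX) : G) * p.1.1⁻¹) * p.1.1 = ((p.2.1 : NX) : G) := by group
    change p.1.1⁻¹ * (p.1.1 * ((p.2.1 : NX) : G) * p.1.1⁻¹) * p.1.1 ∈ NX
    rw [this]; exact p.2.1.2)⟩)
  have hf : Function.Bijective f := by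
    constructor
    · rintro ⟨⟨h, hh⟩, ⟨n, hn'⟩⟩ ⟨⟨h', hh'⟩, ⟨n', hn''⟩⟩ e
      have e1 := congrArg Prod.fst e
      have e2 : (h₀ (toY ⟨⟨h, hh⟩, ⟨n, hn'⟩⟩))⁻¹ * h = (h₀ (toY ⟨⟨h', hh'⟩, ⟨n', hn''⟩⟩))⁻¹ * h' :=
        congrArg (fun t : Y × NX => (t.2 : G)) e
      change toY _ = toY _ at e1
      rw [e1] at e2
      have e3 : h = h' := mul_left_cancel e2
      subst e3
      have e4 : h * (n : G) * h⁻¹ = h * (n' : G) * h⁻¹ := congrArg Subtype.val e1
      have e5 : n = n' := Subtype.ext (mul_left_cancel (mul_right_cancel e4))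
      subst e5
      rfl
    · rintro ⟨y, k, hk⟩
      set h := h₀ y * k with hh
      have hxh : h⁻¹ * x * h ∈ NX := by
        have : h⁻¹ * x * h = k⁻¹ * ((h₀ y)⁻¹ * x * h₀ y) * k := by rw [hh]; group
        rw [this]; exact mul_mem (mul_mem (inv_mem hk) (hx₀ y)) hk
      have hyh : h⁻¹ * y.1 * h ∈ NX := by
        have : h⁻¹ * y.1 * h = k⁻¹ * ((h₀ y)⁻¹ * y.1 * h₀ y) * k := by rw [hh]; group
        rw [this]; exact mul_mem (mul_mem (inv_mem hk) (hy₀ y)) hk
      have hyB : h * (h⁻¹ * y.1 * h) * h⁻¹ ∉ B := by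
        have : h * (h⁻¹ * y.1 * h) * h⁻¹ = y.1 := by group
        rw [this]; exact y.2.1
      refine ⟨⟨⟨h, hxh⟩, ⟨⟨_, hyh⟩, hyB⟩⟩, ?_⟩
      have e1 : toY ⟨⟨h, hxh⟩, ⟨⟨_, hyh⟩, hyB⟩⟩ = y := Subtype.ext (by
        change h * (h⁻¹ * y.1 * h) * h⁻¹ = y.1
        group)
      refine Prod.ext e1 (Subtype.ext ?_)
      change (h₀ (toY ⟨⟨h, hxh⟩, ⟨⟨_, hyh⟩, hyB⟩⟩))⁻¹ * h = k
      rw [e1, hh, inv_mul_cancel_left]
  obtain ⟨i₀, hi₀, hi₀o⟩ := hne
  set a := Nat.card X with ha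
  have hapos : 0 < a := Nat.card_pos
  set c := Nat.card (centralizer ({i₀} : Set G) ⊓ NX : Subgroup G) with hcdef
  have hcpos : 0 < c := Nat.card_pos
  have hN : Nat.card NX = a * c := hX.card_normalizer hi₀ hi₀o
  have hfib : ∀ h : H, Nat.card {n : NX // h.1 * (n : G) * h.1⁻¹ ∉ B} = a * c - c := by
    rintro ⟨h, hh⟩
    obtain ⟨hi, hio⟩ := hzN h hh
    have hci : Nat.card (centralizer ({h⁻¹ * z * h} : Set G) ⊓ NX : Subgroup G) = c :=
      Nat.eq_of_mul_eq_mul_left hapos ((hX.card_normalizer hi hio).symm.trans hN)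
    have hiff : ∀ n : NX, h * (n : G) * h⁻¹ ∈ B ↔
        (n : G) ∈ (centralizer ({h⁻¹ * z * h} : Set G) ⊓ NX : Subgroup G) := by
      intro n
      rw [Subgroup.mem_inf, and_iff_left n.2, mem_centralizer_singleton_iff]
      constructor
      · intro hb
        have h1 := hd h (h * (n : G) * h⁻¹) hh (by
          have : h⁻¹ * (h * (n : G) * h⁻¹) * h = (n : G) := by group
          rw [this]; exact n.2)
        have h2 := hB _ hb
        set t := z * (h * (n : G) * h⁻¹ * z * (h * (n : G) * h⁻¹)⁻¹) with ht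
        have h3 := hX.eq_one_of_sq h1 (by
          calc h⁻¹ * t * h * (h⁻¹ * t * h) = h⁻¹ * (t * t) * h := by group
            _ = 1 := by rw [h2, mul_one, inv_mul_cancel])
        have h4 : t = 1 := by
          have := congrArg (fun s => h * s * h⁻¹) h3
          simpa [mul_assoc] using this
        rw [ht] at h4
        have h5 := inv_eq_of_mul_eq_one_right h4
        rw [inv_eq_of_mul_eq_one_right hzz] at h5
        calc (n : G) * (h⁻¹ * z * h)
            = h⁻¹ * (h * (n : G) * h⁻¹ * z * (h * (n : G) * h⁻¹)⁻¹) * h * (n : G) := by group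
          _ = _ := by rw [← h5]
      · intro hc
        refine hC _ ?_
        calc h * (n : G) * h⁻¹ * z = h * ((n : G) * (h⁻¹ * z * h)) * h⁻¹ := by group
          _ = _ := by rw [hc]; group
    have h1 : Nat.card {n : NX // h * (n : G) * h⁻¹ ∈ B} = c := by
      rw [← hci]
      exact Nat.card_congr
        { toFun := fun n => ⟨(n.1 : G), (hiff n.1).1 n.2⟩
          invFun := fun g => ⟨⟨g.1, g.2.2⟩, (hiff ⟨g.1, g.2.2⟩).2 g.2⟩
          left_inv := fun n => rfl
          right_inv := fun g => rfl }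
    haveI : Fintype NX := Fintype.ofFinite _
    rw [← hN, ← h1, Nat.card_eq_fintype_card, Nat.card_eq_fintype_card, Nat.card_eq_fintype_card,
      Fintype.card_subtype_compl]
  have hH : Nat.card H = a * Nat.card (centralizer ({x} : Set G)) := by
    rw [← hn]; exact card_conj_into x (NX : Set G)
  have hP : Nat.card P = Nat.card Y * Nat.card NX := by
    rw [Nat.card_eq_of_bijective f hf, Nat.card_prod]
  haveI : Fintype H := Fintype.ofFinite _
  rw [Nat.card_sigma, Finset.sum_congr rfl (fun h _ => hfib h), Finset.sum_const, Finset.card_univ,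
    ← Nat.card_eq_fintype_card, hH, smul_eq_mul, hN] at hP
  refine Nat.eq_of_mul_eq_mul_right (Nat.mul_pos hapos hcpos) (hP.symm.trans ?_)
  rw [show a * c - c = c * (a - 1) by rw [Nat.mul_sub, mul_one, mul_comm c a]]
  ring

/-- Elements of order four in the normalizer, up to inversion. -/
theorem card_four {x : G} (hN : Nat.card NX = Nat.card X * 4) (hxo : orderOf x = 4)
    (hconj : ∀ n, orderOf n = 4 → IsConj x n ∨ IsConj x n⁻¹) (hnc : ¬ IsConj x x⁻¹)
    (hne : ∃ i ∈ NX, orderOf i = 2) :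
    Nat.card {n : G // n ∈ NX ∧ IsConj x n} = Nat.card X := by
  classical
  obtain ⟨i₀, hi₀, hi₀o⟩ := hne
  rw [← hX.card_two hi₀ hi₀o]
  have ho : ∀ n, IsConj x n → orderOf n = 4 := fun n hn => by
    obtain ⟨c, rfl⟩ := isConj_iff.1 hn
    rw [orderOf_conj', hxo]
  have hsq : ∀ n : G, orderOf n = 4 → orderOf (n * n) = 2 := fun n hn => by
    rw [← sq, orderOf_pow' n two_ne_zero, hn]; decide
  have hflip : ∀ n : G, IsConj x n → ¬ IsConj x n⁻¹ := fun n h h' => by
    refine hnc (h'.trans ?_)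
    obtain ⟨c, hc⟩ := isConj_iff.1 h
    refine IsConj.symm (isConj_iff.2 ⟨c, ?_⟩)
    rw [← hc]
    group
  refine Nat.card_congr (Equiv.ofBijective (fun n : {n : G // n ∈ NX ∧ IsConj x n} =>
    (⟨n.1 * n.1, mul_mem n.2.1 n.2.1, hsq _ (ho _ n.2.2)⟩ : {j : G // j ∈ NX ∧ orderOf j = 2})) ⟨?_, ?_⟩)
  · rintro ⟨n, hn, hnc'⟩ ⟨n', hn', hnc''⟩ e
    have e' : n * n = n' * n' := congrArg Subtype.val e
    have hno := ho _ hnc'
    have hno' := ho _ hnc''
    have hio := hsq _ hno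
    set i := n * n with hidef
    have hiN : i ∈ NX := mul_mem hn hn
    have hcard : Nat.card (centralizer ({i} : Set G) ⊓ NX : Subgroup G) = 4 :=
      Nat.eq_of_mul_eq_mul_left Nat.card_pos ((hX.card_normalizer hiN hio).symm.trans hN)
    have m1 : n ∈ (centralizer ({i} : Set G) ⊓ NX : Subgroup G) :=
      Subgroup.mem_inf.2 ⟨mem_centralizer_singleton_iff.2 (mul_assoc n n n).symm, hn⟩
    have m2 : n' ∈ (centralizer ({i} : Set G) ⊓ NX : Subgroup G) :=
      Subgroup.mem_inf.2 ⟨mem_centralizer_singleton_iff.2 (by rw [e']; exact (mul_assoc n' n' n').symm), hn'⟩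
    have hzp : zpowers n = (centralizer ({i} : Set G) ⊓ NX : Subgroup G) :=
      Subgroup.eq_of_le_of_card_ge (Subgroup.zpowers_le.2 m1) (by rw [hcard, Nat.card_zpowers, hno])
    rw [← hzp, mem_zpowers_iff_mem_range_orderOf, hno] at m2
    simp only [Finset.mem_image, Finset.mem_range] at m2
    obtain ⟨e₁, he₁, rfl⟩ := m2
    refine Subtype.ext ?_
    change n = n ^ e₁
    interval_cases e₁
    · rw [pow_zero, orderOf_one] at hno'; omega
    · rw [pow_one]
    · rw [sq, hio] at hno'; omega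
    · exfalso
      refine hflip n hnc' ?_
      have h4 : n ^ 4 = 1 := hno ▸ pow_orderOf_eq_one n
      rwa [inv_eq_of_mul_eq_one_right (show n * n ^ 3 = 1 by rw [← pow_succ', h4])]
  · rintro ⟨i, hiN, hio⟩
    have hcard : Nat.card (centralizer ({i} : Set G) ⊓ NX : Subgroup G) = 4 :=
      Nat.eq_of_mul_eq_mul_left Nat.card_pos ((hX.card_normalizer hiN hio).symm.trans hN)
    obtain ⟨n, hn, hn1, hni⟩ : ∃ n ∈ (centralizer ({i} : Set G) ⊓ NX : Subgroup G), n ≠ 1 ∧ n ≠ i := by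
      by_contra hcon
      push Not at hcon
      have hle : (centralizer ({i} : Set G) ⊓ NX : Subgroup G) ≤ zpowers i := fun n hn => by
        by_cases h : n = 1
        · rw [h]; exact one_mem _
        · rw [hcon n hn h]; exact mem_zpowers i
      have := Subgroup.card_le_of_le hle
      rw [hcard, Nat.card_zpowers, hio] at this
      omega
    obtain ⟨hnC, hnN⟩ := Subgroup.mem_inf.1 hn
    rw [mem_centralizer_singleton_iff] at hnC
    have hd : orderOf n ∣ 4 := by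
      rw [← hcard, ← Subgroup.orderOf_mk n hn]; exact orderOf_dvd_natCard _
    have h4 : orderOf n = 4 := by
      obtain ⟨k, hk, he⟩ := (Nat.dvd_prime_pow Nat.prime_two).1 (show orderOf n ∣ 2 ^ 2 by norm_num; exact hd)
      interval_cases k
      · exact absurd (orderOf_eq_one_iff.1 he) hn1
      · exact ((hX.comm_two hiN hio hnN (sq_of_two he) hnC).elim hn1 hni).elim
      · exact he
    have hnn : n * n = i := by
      refine ((hX.comm_two hiN hio (mul_mem hnN hnN) (sq_of_two (hsq n h4)) ?_).resolve_left ?_)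
      · rw [mul_assoc, hnC, ← mul_assoc, hnC, mul_assoc]
      · exact ne_of_apply_ne orderOf (by rw [hsq n h4, orderOf_one]; omega)
    rcases hconj n h4 with h | h
    · exact ⟨⟨n, hnN, h⟩, Subtype.ext hnn⟩
    · refine ⟨⟨n⁻¹, inv_mem hnN, h⟩, Subtype.ext ?_⟩
      change n⁻¹ * n⁻¹ = i
      rw [← mul_inv_rev, hnn, inv_eq_of_mul_eq_one_right (sq_of_two hio)]

omit [Finite G] in
/-- Conjugates of two such subgroups that both contain a pair are of the same order. -/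
theorem card_eq_of_pair [Finite G] {Y : Subgroup G} (hY : Torus Y) {B : Subgroup G} {x z y h k : G}
    (hz : z ∈ zpowers x) (hzo : orderOf z = 2) (hC : ∀ y, y * z = z * y → y ∈ B) (hy : y ∉ B)
    (hx₁ : h⁻¹ * x * h ∈ NX) (hy₁ : h⁻¹ * y * h ∈ NX)
    (hx₂ : k⁻¹ * x * k ∈ Subgroup.normalizer (Y : Set G))
    (hy₂ : k⁻¹ * y * k ∈ Subgroup.normalizer (Y : Set G)) : Nat.card X = Nat.card Y := by
  obtain ⟨e, rfl⟩ := Subgroup.mem_zpowers_iff.1 hz
  have hd : ∀ (W : Subgroup G), Torus W → ∀ h, h⁻¹ * x * h ∈ Subgroup.normalizer (W : Set G) →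
      h⁻¹ * y * h ∈ Subgroup.normalizer (W : Set G) →
      h⁻¹ * (x ^ e * (y * x ^ e * y⁻¹)) * h ∈ W := by
    intro W hW h hx hy'
    have hc : ∀ a : G, h⁻¹ * a * h = h⁻¹ * a * (h⁻¹)⁻¹ := fun a => by rw [inv_inv]
    have hi : h⁻¹ * x ^ e * h ∈ Subgroup.normalizer (W : Set G) := by
      rw [hc, ← conj_zpow, ← hc]; exact zpow_mem hx e
    have hio : orderOf (h⁻¹ * x ^ e * h) = 2 := by rw [hc, orderOf_conj', hzo]
    have hj := mul_mem (mul_mem hy' hi) (inv_mem hy')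
    have := hW.mul_mem_of_two hi hj hio (by rw [orderOf_conj', hio])
    convert this using 1
    group
  set d := x ^ e * (y * x ^ e * y⁻¹) with hddef
  have h1 := hd X hX h hx₁ hy₁
  have h2 := hd Y hY k hx₂ hy₂
  have hd1 : d ≠ 1 := fun he => hy (hC y (by
    have h1 := inv_eq_of_mul_eq_one_right he
    rw [inv_eq_of_mul_eq_one_right (sq_of_two hzo)] at h1
    calc y * x ^ e = (y * x ^ e * y⁻¹) * y := by group
      _ = _ := by rw [← h1]))
  have hne : ∀ t, t⁻¹ * d * t ≠ 1 := fun t he => hd1 (by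
    rw [mul_assoc, inv_mul_eq_one, eq_comm, mul_eq_right] at he
    exact he)
  have e1 := hX.cent _ h1 (hne h)
  have e2 := hY.cent _ h2 (hne k)
  rw [← e1, ← e2]
  refine Nat.card_congr (((MulAut.conj (k⁻¹ * h)).toEquiv).subtypeEquiv fun t => ?_)
  change t ∈ centralizer ({h⁻¹ * d * h} : Set G) ↔
    k⁻¹ * h * t * (k⁻¹ * h)⁻¹ ∈ centralizer ({k⁻¹ * d * k} : Set G)
  rw [mem_centralizer_singleton_iff, mem_centralizer_singleton_iff]
  constructor
  · intro hh
    calc k⁻¹ * h * t * (k⁻¹ * h)⁻¹ * (k⁻¹ * d * k) = k⁻¹ * h * (t * (h⁻¹ * d * h)) * (k⁻¹ * h)⁻¹ := by group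
      _ = _ := by rw [hh]; group
  · intro hh
    calc t * (h⁻¹ * d * h) = (k⁻¹ * h)⁻¹ * (k⁻¹ * h * t * (k⁻¹ * h)⁻¹ * (k⁻¹ * d * k)) * (k⁻¹ * h) := by group
      _ = _ := by rw [hh]; group

end Torus

end Cfsg.Agent.LocalEven64.SzSub
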